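import Cfsg.Agent.NormEq.Basic
import Cfsg.Agent.Lib.AutPSL.Out

/-!
# The automorphism groups of `PSL₂(q)` with equal normalizers
-/

set_option autoImplicit false
set_option linter.style.haveILetI false
set_option linter.unusedSectionVars false

namespace Cfsg.Agent.NormEq.Outer

open Matrix Cfsg.Agent.AutPSL.Basic Cfsg.Agent.AutPSL.Main Cfsg.Agent.AutPSL.Out

variable {F : Type*} [Field F]

local notation "P" => MulAut (Matrix.ProjectiveSpecialLinearGroup (Fin 2) F)

/-- An invertible matrix. -/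
noncomputable def mg (a b c d : F) (h : a * d - b * c ≠ 0) : GL (Fin 2) F :=
  Matrix.GeneralLinearGroup.mkOfDetNeZero !![a, b; c, d] (by rwa [Matrix.det_fin_two_of])

theorem mg_coe (a b c d : F) (h : a * d - b * c ≠ 0) :
    ((mg a b c d h : GL (Fin 2) F) : Matrix (Fin 2) (Fin 2) F) = !![a, b; c, d] := rfl

/-- The matrix `diag(a, 1)`. -/
def dg : Fˣ →* GL (Fin 2) F where
  toFun a := ⟨!![(a : F), 0; 0, 1], !![((a⁻¹ : Fˣ) : F), 0; 0, 1],
    by simp [Matrix.one_fin_two], by simp [Matrix.one_fin_two]⟩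
  map_one' := Units.ext (by simp [Matrix.one_fin_two])
  map_mul' a b := Units.ext (by simp)

theorem dg_coe (a : Fˣ) :
    ((dg a : GL (Fin 2) F) : Matrix (Fin 2) (Fin 2) F) = !![(a : F), 0; 0, 1] := rfl

theorem det_dg (a : Fˣ) : ((dg a : GL (Fin 2) F) : Matrix (Fin 2) (Fin 2) F).det = a := by
  simp [dg_coe, Matrix.det_fin_two]

theorem fieldGL_dg (τ : F ≃+* F) (a : Fˣ) :
    fieldGL τ (dg a) = dg (Units.map τ.toRingHom.toMonoidHom a) := by
  refine Units.ext ?_
  rw [fieldGL_coe, dg_coe, dg_coe]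
  ext i j; fin_cases i <;> fin_cases j <;> simp

theorem gAut_eq_iff {g h : GL (Fin 2) F} : (gAut g : P) = gAut h ↔
    ∃ c : F, (h : Matrix (Fin 2) (Fin 2) F) = c • (g : Matrix (Fin 2) (Fin 2) F) := by
  rw [← inv_mul_eq_one, ← map_inv, ← map_mul, gAut_eq_one_iff le_rfl,
    Matrix.GeneralLinearGroup.mem_center_iff_val_mem_range_scalar]
  constructor
  · rintro ⟨c, hc⟩
    refine ⟨c, ?_⟩
    have := congrArg ((g : Matrix (Fin 2) (Fin 2) F) * ·) hc
    rw [Units.val_mul, ← mul_assoc, Units.mul_inv, one_mul, Matrix.scalar_apply,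
      ← Matrix.smul_one_eq_diagonal, Matrix.mul_smul, mul_one] at this
    exact this.symm
  · rintro ⟨c, hc⟩
    refine ⟨c, ?_⟩
    rw [Units.val_mul, hc, Matrix.mul_smul, Units.inv_mul, Matrix.smul_one_eq_diagonal,
      Matrix.scalar_apply]

theorem commute_field {τ : F ≃+* F} {g : GL (Fin 2) F} : Commute (fAut τ : P) (gAut g) ↔
    ∃ c : F, (g : Matrix (Fin 2) (Fin 2) F) = c • (g : Matrix (Fin 2) (Fin 2) F).map τ := by
  rw [Commute, SemiconjBy, fAut_mul_gAut, mul_left_inj, gAut_eq_iff, fieldGL_coe]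

theorem fAut_ne_one {τ : F ≃+* F} (h : τ ≠ 1) : (fAut τ : P) ≠ 1 := fun e =>
  h (mul_field_eq_one le_rfl (g := 1) (by rw [map_one, one_mul, e])).1

theorem gAut_mul_field_ne {τ : F ≃+* F} (h : τ ≠ 1) (g g' : GL (Fin 2) F) :
    (gAut g : P) * fAut τ ≠ gAut g' := fun e =>
  h (mul_field_eq_one le_rfl (g := g'⁻¹ * g) (by rw [map_mul, map_inv, mul_assoc, e, inv_mul_cancel])).1

variable [Fintype F]

theorem isSquare_mul {a b : F} (ha : ¬ IsSquare a) (hb : ¬ IsSquare b) : IsSquare (a * b) := by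
  classical
  have hF : ringChar F ≠ 2 := fun h => ha (FiniteField.isSquare_of_char_two h a)
  have ha0 : a ≠ 0 := fun e => ha (e ▸ IsSquare.zero)
  have hb0 : b ≠ 0 := fun e => hb (e ▸ IsSquare.zero)
  rw [← quadraticChar_one_iff_isSquare (mul_ne_zero ha0 hb0), map_mul,
    (quadraticChar_neg_one_iff_not_isSquare).2 ha, (quadraticChar_neg_one_iff_not_isSquare).2 hb]
  norm_num

theorem isSquare_map_iff (τ : F ≃+* F) {a : F} : IsSquare (τ a) ↔ IsSquare a :=
  ⟨fun h => by simpa using h.map τ.symm, fun h => h.map τ⟩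

theorem isSquare_mul_map (τ : F ≃+* F) (u : F) : IsSquare (u * τ u) := by
  by_cases h : IsSquare u
  · exact h.mul (h.map τ)
  · exact isSquare_mul h (mt (isSquare_map_iff τ).1 h)

/-- A nonsquare is not inverted by a field automorphism of order two. -/
theorem norm_ne_one {τ : F ≃+* F} (h2 : ∀ x, τ (τ x) = x) (h1 : τ ≠ 1) {a : F} (ha : ¬ IsSquare a) :
    a * τ a ≠ 1 := by
  intro he
  have ha0 : a ≠ 0 := fun e => ha (e ▸ IsSquare.zero)
  have key : ∀ u : F, u ≠ 0 → a * τ u = u → False := by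
    intro u hu hau
    have hτu : τ u ≠ 0 := by simpa using hu
    refine ha ?_
    rw [show a = (u * τ u) / (τ u * τ u) by field_simp; linear_combination hau]
    exact (isSquare_mul_map τ u).div (IsSquare.mul_self _)
  by_cases hm : a = -1
  · obtain ⟨v, hv⟩ : ∃ v, τ v ≠ v := by
      by_contra hall
      push Not at hall
      exact h1 (RingEquiv.ext hall)
    exact key (v - τ v) (sub_ne_zero.2 hv.symm) (by rw [map_sub, h2, hm]; ring)
  · refine key (1 + a) (fun e => hm (eq_neg_of_add_eq_zero_right e)) ?_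
    rw [map_add, map_one]
    linear_combination he

/-- Powers of a semilinear automorphism. -/
theorem pow_decomp (g : GL (Fin 2) F) (τ : F ≃+* F) (n : ℕ) :
    ∃ (g' : GL (Fin 2) F) (c : F), c ≠ 0 ∧
      (g' : Matrix (Fin 2) (Fin 2) F).det = (g : Matrix (Fin 2) (Fin 2) F).det ^ n * (c * c) ∧
      ((gAut g * fAut τ : P)) ^ n = gAut g' * fAut (τ ^ n) := by
  induction n with
  | zero => exact ⟨1, 1, one_ne_zero, by simp, by simp⟩
  | succ n ih =>
    obtain ⟨g', c, hc, hd, e⟩ := ih
    obtain ⟨b, hb⟩ : ∃ b, b = (g : Matrix (Fin 2) (Fin 2) F).det := ⟨_, rfl⟩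
    rw [← hb] at hd ⊢
    have hb0 : b ≠ 0 := hb ▸ ((Matrix.isUnit_iff_isUnit_det _).1 g.isUnit).ne_zero
    obtain ⟨s, hs⟩ := isSquare_mul_map τ b
    have hτb : τ b = b * ((s / b) * (s / b)) := by
      field_simp
      linear_combination hs
    have hs0 : s / b ≠ 0 := fun e' => by
      rw [e', mul_zero, mul_zero] at hτb
      exact hb0 (by simpa using hτb)
    refine ⟨g * fieldGL τ g', (s / b) ^ n * τ c, mul_ne_zero (pow_ne_zero _ hs0) (by simpa using hc),
      ?_, ?_⟩
    · rw [Units.val_mul, Matrix.det_mul, fieldGL_coe]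
      have : ((g' : Matrix (Fin 2) (Fin 2) F).map τ).det = τ (g' : Matrix (Fin 2) (Fin 2) F).det :=
        (τ.toRingHom.map_det _).symm
      rw [this, hd, ← hb, map_mul, map_pow, map_mul, hτb]
      ring
    · rw [pow_succ', e, mul_assoc, ← mul_assoc (fAut τ : P), fAut_mul_gAut, map_mul, pow_succ', map_mul]
      group

variable {H : Subgroup (MulAut (Matrix.ProjectiveSpecialLinearGroup (Fin 2) F))}

theorem gAut_mem (hI : ∀ s : Matrix.SpecialLinearGroup (Fin 2) F,
      (gAut (Matrix.SpecialLinearGroup.toGL s) : P) ∈ H)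
    {g : GL (Fin 2) F} (h : IsSquare (g : Matrix (Fin 2) (Fin 2) F).det) : (gAut g : P) ∈ H := by
  obtain ⟨c, hc⟩ := h
  have hd := ((Matrix.isUnit_iff_isUnit_det _).1 g.isUnit).ne_zero
  have hc0 : c ≠ 0 := fun e => hd (by rw [hc, e, mul_zero])
  have hs : (c⁻¹ • (g : Matrix (Fin 2) (Fin 2) F)).det = 1 := by
    rw [Matrix.det_smul, Fintype.card_fin, hc]; field_simp
  have := hI ⟨_, hs⟩
  rwa [← (gAut_eq_iff (g := g)).2 ⟨c⁻¹, rfl⟩] at this

/-- Centralizers of elements of odd order commuting with an involution. -/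
theorem cent_of_odd (hN : Nrm H) {x t y : P} (hxH : x ∈ H) (htH : t ∈ H) (hyH : y ∈ H)
    (ht : orderOf t = 2) (hx : Odd (orderOf x)) (hx1 : x ≠ 1) (hxt : Commute x t)
    (hyx : Commute y x) : Commute y t := by
  haveI : Finite H := inferInstance
  have hn := hN.norm_odd (x := (⟨x, hxH⟩ : H)) (t := ⟨t, htH⟩) (by rwa [Subgroup.orderOf_mk])
    (by rwa [Subgroup.orderOf_mk]) (fun e => hx1 (congrArg Subtype.val e)) (Subtype.ext hxt.eq)
  have hy : (⟨y, hyH⟩ : H) ∈ Subgroup.normalizer (Subgroup.zpowers (⟨x, hxH⟩ : H) : Set H) := by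
    refine Subgroup.centralizer_le_normalizer _ ?_
    rw [Subgroup.mem_centralizer_iff]
    rintro _ ⟨n, rfl⟩
    exact ((Commute.zpow_right (show Commute (⟨y, hyH⟩ : H) ⟨x, hxH⟩ from Subtype.ext hyx.eq) n)).eq.symm
  rw [hn] at hy
  exact congrArg Subtype.val (Subgroup.mem_centralizer_singleton_iff.1 hy)

theorem gAut_W_order (hW : (0 : F) * 0 - 1 * (-1) ≠ 0) :
    orderOf (gAut (mg 0 1 (-1) 0 hW) : P) = 2 := by
  refine orderOf_eq_prime ?_ fun e => ?_
  · rw [← map_pow, ← map_one (gAut (n := 2) (F := F)), gAut_eq_iff]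
    refine ⟨-1, ?_⟩
    rw [Units.val_pow_eq_pow_val, mg_coe, pow_two]
    ext i j; fin_cases i <;> fin_cases j <;> simp
  · rw [← map_one (gAut (n := 2) (F := F)), gAut_eq_iff] at e
    obtain ⟨c, hc⟩ := e
    have h0 := congrFun (congrFun hc 0) 0
    have h1 := congrFun (congrFun hc 0) 1
    simp [mg_coe] at h0 h1

/-- No field automorphism of prime order. -/
theorem no_field (hN : Nrm H) (hI : ∀ s : Matrix.SpecialLinearGroup (Fin 2) F,
      (gAut (Matrix.SpecialLinearGroup.toGL s) : P) ∈ H) (h4 : Fintype.card F ≠ 4)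
    {τ : F ≃+* F} {r : ℕ} (hr : r.Prime) (hτr : τ ^ r = 1) (hτ : τ ≠ 1) (hmem : (fAut τ : P) ∈ H) :
    False := by
  haveI := Fact.mk hr
  have hord : orderOf (fAut τ : P) = r :=
    orderOf_eq_prime (by rw [← map_pow, hτr, map_one]) (fAut_ne_one hτ)
  have hdU : ∀ a : F, (1 : F) * 1 - a * 0 ≠ 0 := fun a => by simp
  have memU : ∀ a : F, (gAut (mg 1 a 0 1 (hdU a)) : P) ∈ H := fun a =>
    gAut_mem hI ⟨1, by simp [mg_coe, Matrix.det_fin_two]⟩
  rcases hr.eq_two_or_odd' with rfl | hodd
  · by_cases h2 : ringChar F = 2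
    · haveI : CharP F 2 := ringChar.of_eq h2
      have hsq : ∀ g : GL (Fin 2) F, (gAut g : P) ∈ H := fun g =>
        gAut_mem hI (FiniteField.isSquare_of_char_two h2 _)
      have h20 : (2 : F) = 0 := CharP.cast_eq_zero F 2
      have hdS : (0 : F) * 1 - 1 * 1 ≠ 0 := by simp
      obtain ⟨S, hS⟩ : ∃ S, S = mg (0 : F) 1 1 1 hdS := ⟨_, rfl⟩
      have hS3 : orderOf (gAut S : P) = 3 := by
        haveI : Fact (Nat.Prime 3) := ⟨Nat.prime_three⟩
        refine orderOf_eq_prime ?_ fun e => ?_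
        · rw [← map_pow, ← map_one (gAut (n := 2) (F := F)), gAut_eq_iff]
          refine ⟨1, ?_⟩
          rw [Units.val_pow_eq_pow_val, hS, mg_coe, pow_succ, pow_two]
          ext i j; fin_cases i <;> fin_cases j <;> simp <;>
            first | linear_combination h20 | linear_combination -h20
        · rw [hS, ← map_one (gAut (n := 2) (F := F)), gAut_eq_iff] at e
          obtain ⟨c, hc⟩ := e
          have h0 := congrFun (congrFun hc 0) 0
          have h1 := congrFun (congrFun hc 0) 1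
          simp [mg_coe] at h0 h1
      have hSf : Commute (fAut τ : P) (gAut S) := commute_field.2 ⟨1, by
        rw [hS, mg_coe]; ext i j; fin_cases i <;> fin_cases j <;> simp⟩
      have fixed : ∀ z : F, z * z + z + 1 ≠ 0 → τ z = z := by
        intro z hz
        have hd : z * (z + 1) - 1 * 1 ≠ 0 := fun e => hz (by linear_combination e + h20)
        have hc : Commute (gAut (mg z 1 1 (z + 1) hd) : P) (gAut S) := by
          rw [Commute, SemiconjBy, ← map_mul, ← map_mul]
          congr 1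
          refine Units.ext ?_
          rw [Units.val_mul, Units.val_mul, hS, mg_coe, mg_coe]
          ext i j; fin_cases i <;> fin_cases j <;> simp
        have := cent_of_odd hN (hsq S) hmem (hsq _) hord (by rw [hS3]; decide)
          (fun e => by rw [e, orderOf_one] at hS3; omega) hSf.symm hc
        obtain ⟨c, hc'⟩ := commute_field.1 this.symm
        have h1 := congrFun (congrFun hc' 0) 1
        have h0 := congrFun (congrFun hc' 0) 0
        simp [mg_coe] at h0 h1
        rw [← h1] at h0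
        simpa using h0.symm
      obtain ⟨z, hz⟩ : ∃ z, τ z ≠ z := by
        by_contra hall
        push Not at hall
        exact hτ (RingEquiv.ext hall)
      have hzz : z * z + z + 1 = 0 := by_contra fun e => hz (fixed z e)
      classical
      have hall : ∀ a : F, a ∈ ({0, 1, z, z + 1} : Finset F) := by
        intro a
        simp only [Finset.mem_insert, Finset.mem_singleton]
        by_cases ha : τ a = a
        · have hza : τ (z + a) ≠ z + a := fun e => hz (by simpa [ha] using e)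
          have e1 : (z + a) * (z + a) + (z + a) + 1 = 0 := by_contra fun e => hza (fixed _ e)
          have e2 : a * (a - 1) = 0 := by linear_combination e1 - hzz - (z * a + a) * h20
          rcases mul_eq_zero.1 e2 with e | e
          · exact Or.inl e
          · exact Or.inr (Or.inl (sub_eq_zero.1 e))
        · have e1 : a * a + a + 1 = 0 := by_contra fun e => ha (fixed _ e)
          have e2 : (a - z) * (a - (z + 1)) = 0 := by
            linear_combination e1 + hzz - (1 + z * a + a) * h20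
          rcases mul_eq_zero.1 e2 with e | e
          · exact Or.inr (Or.inr (Or.inl (sub_eq_zero.1 e)))
          · exact Or.inr (Or.inr (Or.inr (sub_eq_zero.1 e)))
      have hle : Fintype.card F ≤ 4 := by
        refine le_trans (le_of_eq ?_) (Finset.card_le_four (a := (0 : F)) (b := 1) (c := z) (d := z + 1))
        rw [Finset.eq_univ_iff_forall.2 hall, Finset.card_univ]
      obtain ⟨m, -, hm⟩ := FiniteField.card F 2
      have h1 := Fintype.one_lt_card (α := F)
      have hm2 : (m : ℕ) ≤ 2 := (Nat.pow_le_pow_iff_right one_lt_two).1 (by omega : 2 ^ (m : ℕ) ≤ 2 ^ 2)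
      have : Fintype.card F = 2 := by
        rcases (show (m : ℕ) = 0 ∨ (m : ℕ) = 1 ∨ (m : ℕ) = 2 by omega) with e | e | e <;>
          rw [e] at hm <;> omega
      have hz0 : z = 0 ∨ z = 1 := by
        have he : ({0, 1} : Finset F) = Finset.univ :=
          Finset.eq_univ_of_card _ (by rw [Finset.card_pair zero_ne_one, this])
        have hzm := Finset.mem_univ z
        rw [← he] at hzm
        simpa using hzm
      rcases hz0 with rfl | rfl <;> simp at hz
    · have h20 : (2 : F) ≠ 0 := Ring.two_ne_zero h2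
      obtain ⟨p, hpc⟩ := CharP.exists F
      haveI : Fact p.Prime := ⟨CharP.char_is_prime F p⟩
      have hp2 : p ≠ 2 := fun e => h20 (by subst e; exact CharP.cast_eq_zero F 2)
      have hpw : ∀ n : ℕ, (gAut (mg 1 1 0 1 (hdU 1)) : P) ^ n = gAut (mg 1 (n : F) 0 1 (hdU n)) := by
        intro n
        induction n with
        | zero =>
          rw [pow_zero, ← map_one (gAut (n := 2) (F := F))]
          congr 1; refine Units.ext ?_; simp [mg_coe, Matrix.one_fin_two]
        | succ n ih =>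
          rw [pow_succ, ih, ← map_mul]
          congr 1; refine Units.ext ?_; simp [mg_coe]
          ring
      have hox : orderOf (gAut (mg 1 1 0 1 (hdU 1)) : P) = p := by
        refine orderOf_eq_prime ?_ fun e => ?_
        · rw [hpw, ← map_one (gAut (n := 2) (F := F))]
          congr 1; refine Units.ext ?_; simp [mg_coe, Matrix.one_fin_two]
        · rw [← map_one (gAut (n := 2) (F := F)), gAut_eq_iff] at e
          obtain ⟨c, hc⟩ := e
          have h0 := congrFun (congrFun hc 0) 0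
          have h1 := congrFun (congrFun hc 0) 1
          simp [mg_coe] at h0 h1
          subst h0
          simp at h1
      refine hτ (RingEquiv.ext fun a => ?_)
      have hc : Commute (gAut (mg 1 a 0 1 (hdU a)) : P) (gAut (mg 1 1 0 1 (hdU 1))) := by
        rw [Commute, SemiconjBy, ← map_mul, ← map_mul]
        congr 1; refine Units.ext ?_; simp [mg_coe]; ring
      have := cent_of_odd hN (memU 1) hmem (memU a) hord
        (by rw [hox]; exact (Fact.out : p.Prime).odd_of_ne_two hp2)
        (fun e => by rw [e, orderOf_one] at hox; exact (Fact.out : p.Prime).ne_one hox.symm)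
        (commute_field.2 ⟨1, by ext i j; fin_cases i <;> fin_cases j <;> simp [mg_coe]⟩).symm hc
      obtain ⟨c, hc'⟩ := commute_field.1 this.symm
      have h0 := congrFun (congrFun hc' 0) 0
      have h1 := congrFun (congrFun hc' 0) 1
      simp [mg_coe] at h0 h1
      rw [← h0] at h1
      simpa using h1.symm
  · have hW : (0 : F) * 0 - 1 * (-1) ≠ 0 := by simp
    have memW : (gAut (mg 0 1 (-1) 0 hW) : P) ∈ H :=
      gAut_mem hI ⟨1, by simp [mg_coe, Matrix.det_fin_two]⟩
    have := cent_of_odd hN hmem memW (memU 1) (gAut_W_order hW) (hord ▸ hodd) (fAut_ne_one hτ)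
      (commute_field.2 ⟨1, by ext i j; fin_cases i <;> fin_cases j <;> simp [mg_coe]⟩)
      (commute_field.2 ⟨1, by ext i j; fin_cases i <;> fin_cases j <;> simp [mg_coe]⟩).symm
    rw [Commute, SemiconjBy, ← map_mul, ← map_mul, gAut_eq_iff] at this
    obtain ⟨c, hc⟩ := this
    rw [Units.val_mul, Units.val_mul, mg_coe, mg_coe] at hc
    have h0 := congrFun (congrFun hc 0) 0
    have h1 := congrFun (congrFun hc 0) 1
    simp at h0 h1
    simp [h0] at h1

/-- The twisted case. -/
theorem sq_fixed (hN : Nrm H) (hI : ∀ s : Matrix.SpecialLinearGroup (Fin 2) F,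
      (gAut (Matrix.SpecialLinearGroup.toGL s) : P) ∈ H)
    {τ : F ≃+* F} (h2 : ∀ x, τ (τ x) = x) (hτ : τ ≠ 1) {a : Fˣ} (ha : ¬ IsSquare (a : F))
    (hmem : (gAut (dg a) * fAut τ : P) ∈ H) : τ ((a : F) * a) = a * a := by
  obtain ⟨β, hβ⟩ : ∃ β : P, β = gAut (dg a) * fAut τ := ⟨_, rfl⟩
  rw [← hβ] at hmem
  obtain ⟨N, hNd⟩ : ∃ N : Fˣ, N = a * Units.map τ.toRingHom.toMonoidHom a := ⟨_, rfl⟩
  have hNv : (N : F) = a * τ a := by rw [hNd]; rfl
  have hNfix : τ N = N := by rw [hNv, map_mul, h2, mul_comm]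
  have hττ : τ * τ = 1 := RingEquiv.ext h2
  have hsq : β * β = gAut (dg N) := by
    rw [hβ, hNd, map_mul dg, map_mul gAut, ← fieldGL_dg]
    calc (gAut (dg a) * fAut τ : P) * (gAut (dg a) * fAut τ)
        = gAut (dg a) * (fAut τ * gAut (dg a)) * fAut τ := by group
      _ = gAut (dg a) * gAut (fieldGL τ (dg a)) * fAut (τ * τ) := by
          rw [fAut_mul_gAut, map_mul fAut]; group
      _ = _ := by rw [hττ, map_one, mul_one]
  have hev : ∀ k : ℕ, β ^ (2 * k) = gAut (dg (N ^ k)) := fun k => by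
    rw [pow_mul, pow_two, hsq, map_pow, map_pow]
  have hod : ∀ k : ℕ, β ^ (2 * k + 1) = gAut (dg (N ^ k * a)) * fAut τ := fun k => by
    rw [pow_succ, hev, hβ, map_mul dg, map_mul gAut, mul_assoc]
  have hNsq : IsSquare (N : F) := hNv ▸ isSquare_mul_map τ _
  rcases Nat.even_or_odd' (orderOf N) with ⟨k, hk | hk⟩
  swap
  · refine absurd ?_ (norm_ne_one h2 hτ (a := ((N ^ k * a : Fˣ) : F)) fun h => ha ?_)
    · have : N ^ (2 * k + 1) = 1 := hk ▸ pow_orderOf_eq_one N
      have hv := congrArg Units.val this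
      push_cast at hv ⊢
      rw [map_mul, map_pow, hNfix]
      linear_combination hv - (N : F) ^ (2 * k) * hNv
    · push_cast at h
      have h' := h.mul (hNsq.pow k)
      have hk0 : (N : F) ^ k ≠ 0 := pow_ne_zero _ N.ne_zero
      rw [show (a : F) = (N : F) ^ k * a * (N : F) ^ k / ((N : F) ^ k * (N : F) ^ k) by field_simp]
      exact h'.div (IsSquare.mul_self _)
  have hk0 : 0 < k := by have := orderOf_pos N; omega
  have hNk : ((N ^ k : Fˣ) : F) = -1 := by
    have h1 : ((N ^ k : Fˣ) : F) * ((N ^ k : Fˣ) : F) = 1 := by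
      rw [← Units.val_mul, ← pow_add, ← two_mul, ← hk, pow_orderOf_eq_one, Units.val_one]
    refine (mul_self_eq_one_iff.1 h1).resolve_left fun e => ?_
    exact pow_ne_one_of_lt_orderOf hk0.ne' (show k < orderOf N by omega) (Units.ext (by simpa using e))
  have hne : (-1 : F) ≠ 1 := Ring.neg_one_ne_one_of_char_ne_two
    fun h => ha (FiniteField.isSquare_of_char_two h _)
  obtain ⟨t, htd⟩ : ∃ t : P, t = β ^ (2 * k) := ⟨_, rfl⟩
  have ht' : t = gAut (dg (N ^ k)) := htd.trans (hev k)
  have ht : orderOf t = 2 := by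
    rw [ht']
    refine orderOf_eq_prime ?_ fun e => ?_
    · rw [← map_pow, ← map_one (gAut (n := 2) (F := F))]
      congr 1
      refine Units.ext ?_
      rw [Units.val_pow_eq_pow_val, dg_coe, hNk, pow_two]
      simp [Matrix.one_fin_two]
    · rw [← map_one (gAut (n := 2) (F := F)), gAut_eq_iff] at e
      obtain ⟨c, hc⟩ := e
      rw [dg_coe, hNk] at hc
      have h0 := congrFun (congrFun hc 0) 0
      have h1 := congrFun (congrFun hc 1) 1
      simp at h0 h1
      subst h1
      exact hne (by linear_combination -h0 : (-1 : F) = 1)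
  have hW : (0 : F) * 0 - 1 * (-1) ≠ 0 := by simp
  obtain ⟨w, hw⟩ : ∃ w : P, w = gAut (mg 0 1 (-1) 0 hW) := ⟨_, rfl⟩
  have memW : w ∈ H := hw ▸ gAut_mem hI ⟨1, by simp [mg_coe, Matrix.det_fin_two]⟩
  have hwt : Commute w t := by
    rw [hw, ht', Commute, SemiconjBy, ← map_mul, ← map_mul, gAut_eq_iff]
    refine ⟨-1, ?_⟩
    rw [Units.val_mul, Units.val_mul, dg_coe, hNk, mg_coe]
    ext i j; fin_cases i <;> fin_cases j <;> simp
  have hconj : w * β * w⁻¹ ∈ Subgroup.zpowers β := by
    haveI : Finite H := inferInstance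
    have hb : (⟨t, htd ▸ pow_mem hmem _⟩ : H) ∈ Subgroup.zpowers (⟨β, hmem⟩ : H) :=
      ⟨((2 * k : ℕ) : ℤ), Subtype.ext (by simp only [zpow_natCast, SubgroupClass.coe_pow]; exact htd.symm)⟩
    obtain ⟨n, hn⟩ := Subgroup.mem_zpowers_iff.1
      (hN.conj_mem (g := (⟨w, memW⟩ : H)) (by rwa [Subgroup.orderOf_mk]) hb (Subtype.ext hwt.eq))
    exact ⟨n, by simpa using congrArg Subtype.val hn⟩
  obtain ⟨n, hn⟩ := mem_powers_iff_mem_zpowers.2 hconj
  simp only at hn
  have hwτ : Commute (fAut τ : P) w := hw ▸ commute_field.2 ⟨1, by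
    ext i j; fin_cases i <;> fin_cases j <;> simp [mg_coe]⟩
  have hl : w * β * w⁻¹ = gAut (mg 0 1 (-1) 0 hW * dg a * (mg 0 1 (-1) 0 hW)⁻¹) * fAut τ := by
    rw [map_mul, map_mul, map_inv, ← hw, hβ, mul_assoc, mul_assoc, hwτ.inv_right.eq]
    group
  rw [hl] at hn
  rcases Nat.even_or_odd' n with ⟨m, rfl | rfl⟩
  · rw [hev] at hn
    exact absurd hn.symm (gAut_mul_field_ne hτ _ _)
  rw [hod, mul_left_inj, gAut_eq_iff] at hn
  obtain ⟨c, hc⟩ := hn
  have hc' := congrArg (· * ((mg 0 1 (-1) 0 hW : GL (Fin 2) F) : Matrix (Fin 2) (Fin 2) F)) hc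
  simp only [Units.val_mul, Matrix.smul_mul, mul_assoc, Units.inv_mul, mul_one] at hc'
  rw [dg_coe, dg_coe, mg_coe] at hc'
  have h0 := congrFun (congrFun hc' 0) 1
  have h1 := congrFun (congrFun hc' 1) 0
  simp at h0 h1
  have haN : (a : F) * a * (N : F) ^ m = 1 := by linear_combination ((a : F) * (N : F) ^ m) * h1 - h0
  have e := congrArg τ haN
  rw [map_mul, map_one, map_pow, hNfix] at e
  exact mul_right_cancel₀ (pow_ne_zero m N.ne_zero) (e.trans haN.symm)

/-- The group consists of inner-diagonal automorphisms. -/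
theorem le_range (hN : Nrm H) (hI : ∀ s : Matrix.SpecialLinearGroup (Fin 2) F,
      (gAut (Matrix.SpecialLinearGroup.toGL s) : P) ∈ H) (h4 : Fintype.card F ≠ 4) :
    H ≤ (gAut (n := 2) (F := F)).range := by
  haveI : Finite (F ≃+* F) := Finite.of_injective (fun σ : F ≃+* F => (σ : F → F)) DFunLike.coe_injective
  obtain ⟨ψ, -, hker⟩ := exists_proj_two (F := F)
  intro b hb
  by_contra hnb
  rw [← hker, MonoidHom.mem_ker] at hnb
  obtain ⟨r, hr, hrd⟩ := Nat.exists_prime_and_dvd (fun e => hnb (orderOf_eq_one_iff.1 e))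
  obtain ⟨b', hb'⟩ : ∃ b', b' = b ^ (orderOf (ψ b) / r) := ⟨_, rfl⟩
  have hb'H : b' ∈ H := hb' ▸ pow_mem hb _
  have hor : orderOf (ψ b') = r := by
    rw [hb', map_pow]; exact orderOf_pow_orderOf_div (orderOf_pos _).ne' hrd
  obtain ⟨g, τ, he⟩ := exists_decomp_two b'
  have hτ : τ ≠ 1 := by
    rintro rfl
    rw [map_one, mul_one] at he
    have : b' ∈ ψ.ker := hker ▸ ⟨g, he.symm⟩
    rw [MonoidHom.mem_ker] at this
    rw [this, orderOf_one] at hor
    exact hr.ne_one hor.symm
  obtain ⟨g', c, hc, hdet, hpow⟩ := pow_decomp g τ r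
  rw [← he] at hpow
  obtain ⟨g₁, hg₁⟩ : ∃ g₁, (gAut g₁ : P) = b' ^ r := by
    have : b' ^ r ∈ ψ.ker := by rw [MonoidHom.mem_ker, map_pow, ← hor, pow_orderOf_eq_one]
    rw [hker] at this
    exact this
  have hτr : τ ^ r = 1 := by
    refine (mul_field_eq_one le_rfl (g := g₁⁻¹ * g') ?_).1
    rw [map_mul, map_inv, mul_assoc, ← hpow, hg₁, inv_mul_cancel]
  rw [hτr, map_one, mul_one] at hpow
  obtain ⟨d, hd⟩ : ∃ d, d = (g : Matrix (Fin 2) (Fin 2) F).det := ⟨_, rfl⟩
  rw [← hd] at hdet
  have hd0 : d ≠ 0 := hd ▸ ((Matrix.isUnit_iff_isUnit_det _).1 g.isUnit).ne_zero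
  -- the field automorphism itself lies in the group
  have field : (gAut g : P) ∈ H → False := fun hg =>
    no_field hN hI h4 hr hτr hτ (by
      have := mul_mem (inv_mem hg) hb'H
      rwa [he, inv_mul_cancel_left] at this)
  have hdsq : ¬ IsSquare d := fun h => field (gAut_mem hI (hd ▸ h))
  have twist : ∀ x : GL (Fin 2) F, (gAut x : P) ∈ H →
      ¬ IsSquare (x : Matrix (Fin 2) (Fin 2) F).det → False := by
    intro x hx hxs
    refine field ?_
    have := mul_mem (gAut_mem hI (g := g * x) ?_) (inv_mem hx)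
    · rwa [map_mul, mul_inv_cancel_right] at this
    · rw [Units.val_mul, Matrix.det_mul, ← hd]; exact isSquare_mul hdsq hxs
  have h2r : r = 2 := by
    by_contra h2
    obtain ⟨j, hj⟩ := hr.odd_of_ne_two h2
    refine twist g' (hpow ▸ pow_mem hb'H _) fun h => hdsq ?_
    rw [hdet, hj] at h
    have h0 : d ^ j * c ≠ 0 := mul_ne_zero (pow_ne_zero _ hd0) hc
    rw [show d = d ^ (2 * j + 1) * (c * c) / ((d ^ j * c) * (d ^ j * c)) by
      rw [pow_succ, two_mul, pow_add]; field_simp]
    exact h.div (IsSquare.mul_self _)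
  subst h2r
  have hinv : ∀ x, τ (τ x) = x := fun x => by
    have := RingEquiv.congr_fun hτr x
    simpa [pow_two] using this
  have hfix : ∀ a : F, ¬ IsSquare a → τ (a * a) = a * a := by
    intro a ha
    have ha0 : a ≠ 0 := fun e => ha (e ▸ IsSquare.zero)
    refine sq_fixed hN hI hinv hτ (a := Units.mk0 a ha0) ha ?_
    have := mul_mem (gAut_mem hI (g := dg (Units.mk0 a ha0) * g⁻¹) ?_) hb'H
    · rwa [map_mul, map_inv, he, mul_assoc, inv_mul_cancel_left] at this
    · have e : ((g⁻¹ : GL (Fin 2) F) : Matrix (Fin 2) (Fin 2) F).det = d / (d * d) := by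
        have := congrArg Matrix.det (Units.inv_mul g)
        rw [Matrix.det_mul, Matrix.det_one, ← hd] at this
        field_simp
        linear_combination this
      rw [Units.val_mul, Matrix.det_mul, det_dg, e, Units.val_mk0, mul_div_assoc']
      exact (isSquare_mul ha hdsq).div (IsSquare.mul_self _)
  have hall : ∀ x : F, τ (x * x) = x * x := by
    intro x
    by_cases hx : IsSquare x
    · rcases eq_or_ne x 0 with rfl | hx0
      · simp
      have hdne : τ (d * d) ≠ 0 := by simpa using hd0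
      have hns : ¬ IsSquare (x * d) := fun h => hdsq (by
        rw [show d = x * d / x by field_simp]; exact h.div hx)
      have h1 := hfix _ hns
      have h2 := hfix d hdsq
      rw [show x * d * (x * d) = (x * x) * (d * d) by ring, map_mul, h2] at h1
      exact mul_right_cancel₀ (mul_ne_zero hd0 hd0) h1
    · exact hfix x hx
  obtain ⟨v, hv⟩ : ∃ v, τ v ≠ v := by
    by_contra hall'
    push Not at hall'
    exact hτ (RingEquiv.ext hall')
  have hF2 : (2 : F) ≠ 0 := Ring.two_ne_zero fun h => hdsq (FiniteField.isSquare_of_char_two h d)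
  have := hall (v - τ v + 1)
  rw [map_mul, map_add, map_sub, hinv, map_one] at this
  have h4' : (2 * 2 : F) * (v - τ v) = 0 := by linear_combination -this
  exact hv (sub_eq_zero.1 ((mul_eq_zero.1 h4').resolve_left (mul_ne_zero hF2 hF2))).symm

/-- The group is `PSL₂` or `PGL₂`. -/
theorem classify (hN : Nrm H) (hI : ∀ s : Matrix.SpecialLinearGroup (Fin 2) F,
      (gAut (Matrix.SpecialLinearGroup.toGL s) : P) ∈ H) (h4 : Fintype.card F ≠ 4) :
    Nonempty (H ≃* Matrix.ProjectiveSpecialLinearGroup (Fin 2) F) ∨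
      Nonempty (H ≃* Matrix.ProjGenLinGroup (Fin 2) F) := by
  by_cases hsq : ∀ g : GL (Fin 2) F, (gAut g : P) ∈ H → IsSquare (g : Matrix (Fin 2) (Fin 2) F).det
  · left
    obtain ⟨φ, hφ⟩ : ∃ φ : Matrix.SpecialLinearGroup (Fin 2) F →* P,
        φ = (gAut (n := 2) (F := F)).comp Matrix.SpecialLinearGroup.toGL := ⟨_, rfl⟩
    have hr : H = φ.range := by
      refine le_antisymm (fun b hb => ?_) ?_
      · obtain ⟨g, rfl⟩ := le_range hN hI h4 hb
        obtain ⟨c, hc⟩ := hsq g hb
        have hd := ((Matrix.isUnit_iff_isUnit_det _).1 g.isUnit).ne_zero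
        have hc0 : c ≠ 0 := fun e => hd (by rw [hc, e, mul_zero])
        refine ⟨⟨c⁻¹ • (g : Matrix (Fin 2) (Fin 2) F), by
          rw [Matrix.det_smul, Fintype.card_fin, hc]; field_simp⟩, ?_⟩
        rw [hφ]
        exact ((gAut_eq_iff (g := g)).2 ⟨c⁻¹, rfl⟩).symm
      · rintro _ ⟨s, rfl⟩
        rw [hφ]; exact hI s
    have hk : φ.ker = Subgroup.center (Matrix.SpecialLinearGroup (Fin 2) F) := by
      ext s
      rw [MonoidHom.mem_ker, hφ, MonoidHom.comp_apply, eq_comm, ← map_one (gAut (n := 2) (F := F)),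
        gAut_eq_iff, ← QuotientGroup.eq_one_iff, AutPSL.Basic.mk_eq_one_iff]
      rfl
    exact ⟨((MulEquiv.subgroupCongr hr).trans (QuotientGroup.quotientKerEquivRange φ).symm).trans
      (QuotientGroup.quotientMulEquivOfEq hk)⟩
  · right
    push Not at hsq
    obtain ⟨g₀, hg₀, hns⟩ := hsq
    have hr : H = (gAut (n := 2) (F := F)).range := by
      refine le_antisymm (le_range hN hI h4) ?_
      rintro _ ⟨g, rfl⟩
      by_cases hg : IsSquare (g : Matrix (Fin 2) (Fin 2) F).det
      · exact gAut_mem hI hg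
      · have := mul_mem (gAut_mem hI (g := g * g₀) ?_) (inv_mem hg₀)
        · rwa [map_mul, mul_inv_cancel_right] at this
        · rw [Units.val_mul, Matrix.det_mul]; exact isSquare_mul hg hns
    have hk : (gAut (n := 2) (F := F)).ker = Subgroup.center (GL (Fin 2) F) :=
      Subgroup.ext fun g => MonoidHom.mem_ker.trans (gAut_eq_one_iff le_rfl g)
    exact ⟨((MulEquiv.subgroupCongr hr).trans
      (QuotientGroup.quotientKerEquivRange (gAut (n := 2) (F := F))).symm).trans
      (QuotientGroup.quotientMulEquivOfEq hk)⟩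

end Cfsg.Agent.NormEq.Outer
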