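import Mathlib
import Cfsg.Prelude.Def_CaseTheorems
import Cfsg.Agent.Lib.Cores.Basic
import Cfsg.Agent.Lib.Involutions.Basic
import Cfsg.Agent.S4211

/-!
# Groups in which all nontrivial subgroups of an even cyclic subgroup have the same normalizer
-/

set_option autoImplicit false
set_option linter.style.haveILetI false
set_option linter.unusedSectionVars false

namespace Cfsg.Agent.NormEq

open Subgroup Cfsg.Agent.Involutions
open scoped commutatorElement

variable {G : Type*} [Group G]

/-- Every nontrivial subgroup of an even cyclic subgroup has the normalizer of that subgroup. -/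
def Nrm (G : Type*) [Group G] : Prop :=
  ∀ X : Subgroup G, IsCyclic ↥X → Even (Nat.card ↥X) → ∀ Y : Subgroup G, Y ≤ X → Y ≠ ⊥ →
    Subgroup.normalizer (X : Set G) = Subgroup.normalizer (Y : Set G)

theorem Nrm.subgroup (h : Nrm G) (T : Subgroup G) : Nrm T := by
  intro X hX hev Y hY hY1
  have key : ∀ (Z : Subgroup T) (n : T),
      n ∈ normalizer (Z : Set T) ↔ (n : G) ∈ normalizer ((Z.map T.subtype : Subgroup G) : Set G) := by
    intro Z n
    simp only [mem_normalizer_iff]
    constructor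
    · intro hn z
      constructor
      · rintro ⟨w, hw, rfl⟩
        exact ⟨n * w * n⁻¹, (hn w).1 hw, rfl⟩
      · rintro ⟨w, hw, e⟩
        refine ⟨n⁻¹ * w * n, (hn _).2 (by simpa [mul_assoc] using hw), ?_⟩
        simp only [coe_subtype] at e
        simp only [coe_subtype, coe_mul, coe_inv, e]
        group
    · intro hn w
      have := hn (w : G)
      simp only [mem_map, coe_subtype] at this
      constructor
      · intro hw
        obtain ⟨v, hv, e⟩ := this.1 ⟨w, hw, rfl⟩
        rwa [show n * w * n⁻¹ = v from Subtype.ext e.symm]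
      · intro hw
        obtain ⟨v, hv, e⟩ := this.2 ⟨_, hw, rfl⟩
        rwa [show w = v from Subtype.ext e.symm]
  haveI := hX
  have hcyc : IsCyclic ↥(X.map T.subtype) :=
    (X.equivMapOfInjective T.subtype T.subtype_injective).isCyclic.1 hX
  have hcard : Nat.card ↥(X.map T.subtype) = Nat.card X :=
    (Nat.card_congr (X.equivMapOfInjective T.subtype T.subtype_injective).toEquiv).symm
  have := h _ hcyc (hcard ▸ hev) (Y.map T.subtype) (map_mono hY)
    (by rwa [Ne, map_eq_bot_iff_of_injective _ T.subtype_injective])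
  ext n
  rw [key X n, key Y n, this]

/-- An element with `y` in its cyclic group and even order. -/
theorem Nrm.normalizer_eq (h : Nrm G) {c y : G} (hev : Even (orderOf c)) (hy : y ∈ zpowers c)
    (hy1 : y ≠ 1) : normalizer (zpowers c : Set G) = normalizer (zpowers y : Set G) :=
  h _ inferInstance (by rwa [Nat.card_zpowers]) _ (zpowers_le.2 hy) (zpowers_ne_bot.2 hy1)

theorem conj_mem_of_norm {y g : G} (hg : g ∈ normalizer (zpowers y : Set G)) :
    g * y * g⁻¹ ∈ zpowers y :=
  (mem_normalizer_iff.1 hg y).1 (mem_zpowers y)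

variable [Finite G]

theorem orderOf_two_ne {t : G} (ht : orderOf t = 2) : t ≠ 1 := Basic.ne_one ht

theorem mem_zpowers_two {t a : G} (ht : orderOf t = 2) (ha : a ∈ zpowers t) : a = 1 ∨ a = t := by
  obtain ⟨n, hn, rfl⟩ := Subgroup.mem_zpowers_iff.1 ha
  rw [zpow_mod_orderOf t n |>.symm, ht]
  rcases Int.emod_two_eq_zero_or_one n with e | e <;> simp [e]

theorem normalizer_involution {t : G} (ht : orderOf t = 2) :
    normalizer (zpowers t : Set G) = centralizer ({t} : Set G) := by
  ext g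
  rw [mem_centralizer_singleton_iff]
  constructor
  · intro hg
    rcases mem_zpowers_two ht (conj_mem_of_norm hg) with e | e
    · exact absurd (conj_eq_one_iff.1 e) (orderOf_two_ne ht)
    · exact mul_inv_eq_iff_eq_mul.1 e
  · intro hg
    rw [mem_normalizer_iff]
    intro y
    constructor
    · intro hy
      rcases mem_zpowers_two ht hy with rfl | rfl
      · simp
      · rw [show g * y * g⁻¹ = y from mul_inv_eq_iff_eq_mul.2 hg]; exact hy
    · intro hy
      rcases mem_zpowers_two ht hy with e | e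
      · rw [conj_eq_one_iff.1 e]; exact one_mem _
      · have : y = g⁻¹ * (g * y * g⁻¹) * g := by group
        rw [this, e, mul_assoc, ← hg]; simp

theorem even_of_mem {t c : G} (ht : orderOf t = 2) (htc : t ∈ zpowers c) : Even (orderOf c) := by
  rw [even_iff_two_dvd, ← ht]
  exact orderOf_dvd_of_mem_zpowers htc

/-- All nontrivial powers of an element with involution `t` have normalizer `C(t)`. -/
theorem Nrm.norm_eq (h : Nrm G) {c y t : G} (ht : orderOf t = 2) (htc : t ∈ zpowers c)
    (hy : y ∈ zpowers c) (hy1 : y ≠ 1) :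
    normalizer (zpowers y : Set G) = centralizer ({t} : Set G) := by
  rw [← h.normalizer_eq (even_of_mem ht htc) hy hy1, h.normalizer_eq (even_of_mem ht htc) htc
    (orderOf_two_ne ht), normalizer_involution ht]

theorem Nrm.norm_cyc (h : Nrm G) {y t : G} (ht : orderOf t = 2) (hty : t ∈ zpowers y) :
    normalizer (zpowers y : Set G) = centralizer ({t} : Set G) :=
  h.norm_eq ht hty (mem_zpowers y) fun e => orderOf_two_ne ht (by subst e; simpa using hty)

/-- Elements centralizing the involution of `y` normalize `⟨y⟩`. -/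
theorem Nrm.conj_mem (h : Nrm G) {y t g : G} (ht : orderOf t = 2) (hty : t ∈ zpowers y)
    (hg : Commute g t) : g * y * g⁻¹ ∈ zpowers y :=
  conj_mem_of_norm (h.norm_cyc ht hty ▸ mem_centralizer_singleton_iff.2 hg.eq)

theorem Nrm.norm_odd (h : Nrm G) {x t : G} (ht : orderOf t = 2) (hx : Odd (orderOf x)) (hx1 : x ≠ 1)
    (hc : Commute x t) : normalizer (zpowers x : Set G) = centralizer ({t} : Set G) := by
  obtain ⟨m, hm⟩ := hx
  have htt : t * t = 1 := Basic.inv_sq_one ht
  have htodd : t ^ orderOf x = t := by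
    rw [hm, pow_succ, pow_mul, pow_two, htt, one_pow, one_mul]
  refine h.norm_eq (c := x * t) ht ?_ ?_ hx1
  · exact ⟨orderOf x, by
      show (x * t) ^ ((orderOf x : ℕ) : ℤ) = t
      rw [zpow_natCast, hc.mul_pow, pow_orderOf_eq_one, one_mul, htodd]⟩
  · exact ⟨(orderOf x + 1 : ℕ), by
      show (x * t) ^ ((orderOf x + 1 : ℕ) : ℤ) = x
      rw [zpow_natCast, hc.mul_pow, pow_succ, pow_succ, pow_orderOf_eq_one, one_mul, htodd, htt,
        mul_one]⟩

theorem Nrm.cent_eq_of_comm (h : Nrm G) {x t u : G} (ht : orderOf t = 2) (hu : orderOf u = 2)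
    (hx : Odd (orderOf x)) (hx1 : x ≠ 1) (hxt : Commute x t) (hxu : Commute x u) :
    centralizer ({u} : Set G) = centralizer ({t} : Set G) := by
  rw [← h.norm_odd ht hx hx1 hxt, h.norm_odd hu hx hx1 hxu]

/-- A nontrivial element of a cyclic group generated by a `2`-element has its involution as a power. -/
theorem exists_inv {y : G} (hy : IsPGroup 2 (zpowers y)) (hy1 : y ≠ 1) :
    ∃ t, orderOf t = 2 ∧ t ∈ zpowers y := by
  obtain ⟨k, hk⟩ := IsPGroup.iff_card.1 hy
  rw [Nat.card_zpowers] at hk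
  have hk0 : k ≠ 0 := by rintro rfl; exact hy1 (orderOf_eq_one_iff.1 (by simpa using hk))
  have hd : 2 ∣ orderOf y := hk ▸ dvd_pow_self 2 hk0
  exact ⟨y ^ (orderOf y / 2), orderOf_pow_orderOf_div (orderOf_pos y).ne' hd,
    pow_mem (mem_zpowers y) _⟩

theorem isPGroup_zpowers {S : Subgroup G} (hS : IsPGroup 2 S) {y : G} (hy : y ∈ S) :
    IsPGroup 2 (zpowers y) :=
  hS.to_le (zpowers_le.2 hy)

/-- A cyclic group has at most one involution. -/
theorem inv_unique {t t' y : G} (ht : orderOf t = 2) (ht' : orderOf t' = 2) (h : t ∈ zpowers y)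
    (h' : t' ∈ zpowers y) : t' = t := by
  obtain ⟨a, ha⟩ := Subgroup.mem_zpowers_iff.1 h
  obtain ⟨b, hb⟩ := Subgroup.mem_zpowers_iff.1 h'
  have key : ∀ (a : ℤ) (s : G), orderOf s = 2 → y ^ a = s → ∀ n : ℕ, 2 * n = orderOf y → s = y ^ n := by
    intro a s hs e n hn
    have h1 : (orderOf y : ℤ) ∣ a * 2 := by
      rw [orderOf_dvd_iff_zpow_eq_one, zpow_mul, e, zpow_two, Basic.inv_sq_one hs]
    have h2 : ¬ (orderOf y : ℤ) ∣ a := by
      rw [orderOf_dvd_iff_zpow_eq_one, e]; exact orderOf_two_ne hs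
    rw [← hn] at h1 h2
    push_cast at h1 h2
    obtain ⟨c, hc⟩ := h1
    obtain ⟨d, rfl | rfl⟩ := Int.even_or_odd' c
    · exact absurd ⟨d, by linarith⟩ h2
    · rw [← e, show a = (2 * n : ℕ) * d + (n : ℤ) by push_cast; linarith, zpow_add, zpow_mul,
        zpow_natCast, hn, pow_orderOf_eq_one, one_zpow, one_mul, zpow_natCast]
  obtain ⟨n, hn⟩ := even_of_mem ht h
  rw [key b t' ht' hb n (by omega), key a t ht ha n (by omega)]

/-- Cyclic `2`-groups with different involutions meet trivially. -/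
theorem zpowers_inf_eq_one {a b s t w : G} (ha : IsPGroup 2 (zpowers a)) (hs : orderOf s = 2)
    (hsa : s ∈ zpowers a) (ht : orderOf t = 2) (htb : t ∈ zpowers b) (hne : s ≠ t)
    (hwa : w ∈ zpowers a) (hwb : w ∈ zpowers b) : w = 1 := by
  by_contra hw
  obtain ⟨r, hr, hrw⟩ := exists_inv (ha.to_le (zpowers_le.2 hwa)) hw
  exact hne ((inv_unique hs hr hsa (zpowers_le.2 hwa hrw)).symm.trans
    (inv_unique ht hr htb (zpowers_le.2 hwb hrw)))

/-- Two elements normalizing each other's cyclic groups, which meet trivially, commute. -/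
theorem commute_of_inf {a b : G} (hab : a * b * a⁻¹ ∈ zpowers b) (hba : b * a * b⁻¹ ∈ zpowers a)
    (h1 : ∀ w, w ∈ zpowers a → w ∈ zpowers b → w = 1) : Commute a b := by
  refine commutatorElement_eq_one_iff_commute.1 (h1 _ ?_ ?_)
  · rw [show ⁅a, b⁆ = a * (b * a * b⁻¹)⁻¹ by rw [commutatorElement_def]; group]
    exact mul_mem (mem_zpowers a) (inv_mem hba)
  · rw [commutatorElement_def]
    exact mul_mem hab (inv_mem (mem_zpowers b))

theorem Nrm.commute_of_ne (h : Nrm G) {a b s t : G} (ha : IsPGroup 2 (zpowers a))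
    (hs : orderOf s = 2) (hsa : s ∈ zpowers a) (ht : orderOf t = 2) (htb : t ∈ zpowers b)
    (hne : s ≠ t) (hat : Commute a t) (hbs : Commute b s) : Commute a b :=
  commute_of_inf (h.conj_mem ht htb hat) (h.conj_mem hs hsa hbs)
    fun _ => zpowers_inf_eq_one ha hs hsa ht htb hne

/-- A `2`-element and an element of odd order normalizing each other's cyclic groups commute. -/
theorem commute_of_odd {a b : G} (ha : IsPGroup 2 (zpowers a)) (hb : Odd (orderOf b))
    (hab : a * b * a⁻¹ ∈ zpowers b) (hba : b * a * b⁻¹ ∈ zpowers a) : Commute a b := by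
  refine commute_of_inf hab hba fun w hwa hwb => orderOf_eq_one_iff.1 ?_
  obtain ⟨k, hk⟩ := IsPGroup.iff_card.1 ha
  rw [Nat.card_zpowers] at hk
  obtain ⟨j, -, hj⟩ := (Nat.dvd_prime_pow Nat.prime_two).1 (hk ▸ orderOf_dvd_of_mem_zpowers hwa)
  rcases j with _ | j
  · simpa using hj
  · exfalso
    have h2 : 2 ∣ orderOf b :=
      (hj ▸ dvd_pow_self 2 (Nat.succ_ne_zero j) : 2 ∣ orderOf w).trans (orderOf_dvd_of_mem_zpowers hwb)
    obtain ⟨m, hm⟩ := hb
    omega

/-- The odd core of the centralizer of `t`. -/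
def odds (t : G) : Subgroup G :=
  (Cfsg.oddCore ↥(centralizer ({t} : Set G))).map (centralizer ({t} : Set G)).subtype

theorem Nrm.mem_odds (h : Nrm G) {t x : G} (ht : orderOf t = 2) :
    x ∈ odds t ↔ Commute x t ∧ Odd (orderOf x) := by
  constructor
  · rintro ⟨y, hy, rfl⟩
    refine ⟨mem_centralizer_singleton_iff.1 y.2, ?_⟩
    show Odd (orderOf (y : G))
    rw [orderOf_coe]
    exact Odd.of_dvd_nat Cfsg.Agent.Cores.oddCore_odd (orderOf_dvd_natCard _ hy)
  · rintro ⟨hc, hodd⟩
    refine ⟨⟨x, mem_centralizer_singleton_iff.2 hc.eq⟩, ?_, rfl⟩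
    rcases eq_or_ne x 1 with rfl | hx1
    · exact one_mem _
    have hN : ((zpowers x).subgroupOf (centralizer ({t} : Set G))).Normal := by
      refine ⟨fun n hn g => ?_⟩
      rw [mem_subgroupOf] at hn ⊢
      have hg : (g : G) ∈ normalizer (zpowers x : Set G) := by
        rw [h.norm_odd ht hodd hx1 hc]; exact g.2
      exact (mem_normalizer_iff.1 hg _).1 hn
    haveI := hN
    refine Cfsg.Agent.Cores.le_oddCore (N := (zpowers x).subgroupOf (centralizer ({t} : Set G))) ?_
      (mem_subgroupOf.2 (mem_zpowers x))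
    rw [Nat.card_congr (subgroupOfEquivOfLe (zpowers_le.2 (mem_centralizer_singleton_iff.2 hc.eq))).toEquiv,
      Nat.card_zpowers]
    exact hodd

/-- The odd core of an involution centralizer is abelian. -/
theorem Nrm.odds_comm (h : Nrm G) {t a b : G} (ht : orderOf t = 2) (ha : a ∈ odds t)
    (hb : b ∈ odds t) : Commute a b := by
  have hall : ∀ K : Subgroup ↥(odds t), K.Normal := fun K => ⟨fun k hk g => by
    rcases eq_or_ne k 1 with rfl | hk1
    · simp
    obtain ⟨hkc, hko⟩ := (h.mem_odds ht).1 k.2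
    have hg : (g : G) ∈ normalizer (zpowers (k : G) : Set G) := by
      rw [h.norm_odd ht hko (fun e => hk1 (Subtype.ext e)) hkc]
      exact mem_centralizer_singleton_iff.2 ((h.mem_odds ht).1 g.2).1.eq
    obtain ⟨n, hn⟩ := mem_zpowers_iff.1 (conj_mem_of_norm hg)
    rw [show g * k * g⁻¹ = k ^ n from Subtype.ext (by simpa using hn.symm)]
    exact zpow_mem hk n⟩
  by_contra hne
  obtain ⟨Q, E', A, ⟨e⟩, -⟩ := Cfsg.Agent.S4211.result
    (G := ↥(odds t)) (fun hm => hne (congrArg Subtype.val (hm.is_comm.comm ⟨a, ha⟩ ⟨b, hb⟩))) hall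
  have h8 : 8 ∣ Nat.card ↥(odds t) := by
    have hQ : Nat.card Q = 8 := by
      rw [Nat.card_congr e.toEquiv, Nat.card_eq_fintype_card, QuaternionGroup.card]
    exact hQ ▸ Q.card_subgroup_dvd_card
  have ho : Odd (Nat.card ↥(odds t)) := by
    rw [odds, card_map_of_injective (subtype_injective _)]
    exact Cfsg.Agent.Cores.oddCore_odd
  obtain ⟨m, hm⟩ := ho
  omega

/-- An involution with another centralizer inverts the odd core. -/
theorem Nrm.invert (h : Nrm G) {t u x : G} (ht : orderOf t = 2) (hu : orderOf u = 2)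
    (hut : Commute u t) (hne : centralizer ({u} : Set G) ≠ centralizer ({t} : Set G))
    (hx : x ∈ odds t) : u * x * u⁻¹ = x⁻¹ := by
  have huu : u * u = 1 := Basic.inv_sq_one hu
  have hxu : u * x * u⁻¹ ∈ odds t := by
    rw [h.mem_odds ht] at hx ⊢
    refine ⟨((hut.mul_left hx.1).mul_left hut.inv_left), ?_⟩
    rw [Basic.orderOf_conj]; exact hx.2
  by_contra hne'
  have hz1 : x * (u * x * u⁻¹) ≠ 1 := fun e => hne' (eq_inv_of_mul_eq_one_right e)
  have hz := (h.mem_odds ht).1 (mul_mem hx hxu)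
  refine hne (h.cent_eq_of_comm ht hu hz.2 hz1 hz.1 (Commute.symm ?_))
  have e1 : u * (x * (u * x * u⁻¹)) = u * x * u⁻¹ * (u * u) * x * u⁻¹ := by group
  rw [Commute, SemiconjBy, e1, huu, mul_one, (h.odds_comm ht hx hxu).eq]
  rw [Basic.inv_eq hu]

/-- A `2`-element whose involution has centralizer `C(t)` centralizes the odd core. -/
theorem Nrm.fix_of_cent (h : Nrm G) {t i y x : G} (ht : orderOf t = 2) (hy : IsPGroup 2 (zpowers y))
    (hi : orderOf i = 2) (hiy : i ∈ zpowers y)
    (hc : centralizer ({i} : Set G) = centralizer ({t} : Set G)) (hx : x ∈ odds t) : Commute y x := by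
  obtain ⟨hxt, hxo⟩ := (h.mem_odds ht).1 hx
  rcases eq_or_ne x 1 with rfl | hx1
  · exact Commute.one_right y
  have hxi : Commute x i := by
    have : x ∈ centralizer ({i} : Set G) := hc ▸ mem_centralizer_singleton_iff.2 hxt.eq
    exact mem_centralizer_singleton_iff.1 this
  refine commute_of_odd hy hxo (conj_mem_of_norm ?_) (h.conj_mem hi hiy hxi)
  rw [h.norm_odd ht hxo hx1 hxt, ← hc, mem_centralizer_singleton_iff]
  obtain ⟨n, rfl⟩ := mem_zpowers_iff.1 hiy
  exact ((Commute.refl y).zpow_right n).eq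

/-- A `2`-element fixing a nontrivial element of the odd core has involution with centralizer `C(t)`. -/
theorem Nrm.cent_of_fix (h : Nrm G) {t i y x : G} (ht : orderOf t = 2)
    (hi : orderOf i = 2) (hiy : i ∈ zpowers y) (hx : x ∈ odds t) (hx1 : x ≠ 1) (hxy : Commute y x) :
    centralizer ({i} : Set G) = centralizer ({t} : Set G) := by
  obtain ⟨hxt, hxo⟩ := (h.mem_odds ht).1 hx
  obtain ⟨n, rfl⟩ := mem_zpowers_iff.1 hiy
  exact h.cent_eq_of_comm ht hi hxo hx1 hxt (hxy.zpow_left n).symm

/-- One of three involutions of a four group centralizes the odd core of `C(w)`. -/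
theorem Nrm.exists_cent_eq (h : Nrm G) {a b w x : G} (ha : orderOf a = 2) (hb : orderOf b = 2)
    (hne : a ≠ b) (hab : Commute a b) (hw : orderOf w = 2) (haw : Commute a w) (hbw : Commute b w)
    (hxo : Odd (orderOf x)) (hx1 : x ≠ 1) (hxw : Commute x w) :
    ∃ e, (e = a ∨ e = b ∨ e = a * b) ∧ centralizer ({e} : Set G) = centralizer ({w} : Set G) := by
  by_cases h1 : centralizer ({a} : Set G) = centralizer ({w} : Set G)
  · exact ⟨a, Or.inl rfl, h1⟩
  by_cases h2 : centralizer ({b} : Set G) = centralizer ({w} : Set G)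
  · exact ⟨b, Or.inr (Or.inl rfl), h2⟩
  refine ⟨a * b, Or.inr (Or.inr rfl), ?_⟩
  have hx : x ∈ odds w := (h.mem_odds hw).2 ⟨hxw, hxo⟩
  have hab2 : orderOf (a * b) = 2 := Basic.orderOf_two_iff.2 ⟨by
    rw [mul_assoc, ← mul_assoc b a b, ← hab.eq, mul_assoc a b b, Basic.inv_sq_one hb, mul_one,
      Basic.inv_sq_one ha], fun e => hne (by
    rw [eq_inv_of_mul_eq_one_left e, Basic.inv_eq hb])⟩
  refine h.cent_of_fix hw hab2 (mem_zpowers _) hx hx1 ?_
  have e : a * b * x * (a * b)⁻¹ = x := by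
    rw [show a * b * x * (a * b)⁻¹ = a * (b * x * b⁻¹) * a⁻¹ by group,
      h.invert hw hb hbw h2 hx, ← conj_inv, h.invert hw ha haw h1 hx, inv_inv]
  exact mul_inv_eq_iff_eq_mul.1 e

/-- Conjugates of an element of order four by elements centralizing its square. -/
theorem Nrm.conj_four (h : Nrm G) {y t g : G} (ht : orderOf t = 2) (hy : y * y = t)
    (hg : Commute g t) : g * y * g⁻¹ = y ∨ g * y * g⁻¹ = y⁻¹ := by
  obtain ⟨n, hn⟩ := mem_zpowers_iff.1
    (h.conj_mem ht (y := y) (hy ▸ mul_mem (mem_zpowers y) (mem_zpowers y)) hg)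
  have htt : t * t = 1 := Basic.inv_sq_one ht
  have hy2 : y ^ (2 : ℤ) = t := by rw [zpow_two, hy]
  obtain ⟨m, rfl | rfl⟩ := Int.even_or_odd' n
  · exfalso
    rw [zpow_mul, hy2] at hn
    have h2 : (g * y * g⁻¹) * (g * y * g⁻¹) = 1 := by
      rw [← hn, ← zpow_add, show m + m = 2 * m by ring, zpow_mul, zpow_two, htt, one_zpow]
    rw [show g * y * g⁻¹ * (g * y * g⁻¹) = g * (y * y) * g⁻¹ by group, hy, conj_eq_one_iff] at h2
    exact orderOf_two_ne ht h2
  · rw [zpow_add, zpow_mul, hy2, zpow_one] at hn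
    obtain ⟨l, rfl | rfl⟩ := Int.even_or_odd' m
    · rw [zpow_mul, zpow_two, htt, one_zpow, one_mul] at hn
      exact Or.inl hn.symm
    · rw [zpow_add, zpow_mul, zpow_two, htt, one_zpow, one_mul, zpow_one] at hn
      refine Or.inr (hn.symm.trans (eq_inv_of_mul_eq_one_left ?_))
      rw [mul_assoc, hy, htt]

/-- Conjugates of an involution centralizing an element of order four with square `t`. -/
theorem Nrm.shift (h : Nrm G) {y t u g : G} (ht : orderOf t = 2) (hy : y * y = t) (hu : orderOf u = 2)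
    (huy : Commute u y) (hg : Commute g t) : g * u * g⁻¹ = u ∨ g * u * g⁻¹ = t * u := by
  have huu : u * u = 1 := Basic.inv_sq_one hu
  have hyu : (y * u) * (y * u) = t := by
    rw [mul_assoc, ← mul_assoc u y u, huy.eq, mul_assoc y u u, huu, mul_one, hy]
  have e : g * u * g⁻¹ = (g * y * g⁻¹)⁻¹ * (g * (y * u) * g⁻¹) := by group
  have hyi : y⁻¹ * y⁻¹ = t := by rw [← mul_inv_rev, hy, Basic.inv_eq ht]
  rcases h.conj_four ht hy hg with e1 | e1 <;> rcases h.conj_four ht hyu hg with e2 | e2 <;>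
    rw [e, e1, e2]
  · left; group
  · right
    rw [mul_inv_rev, Basic.inv_eq hu, (huy.inv_right).eq, ← mul_assoc, hyi]
  · right
    rw [inv_inv, ← mul_assoc, hy]
  · left
    rw [inv_inv, mul_inv_rev, Basic.inv_eq hu, (huy.inv_right).eq, ← mul_assoc, mul_inv_cancel, one_mul]

end Cfsg.Agent.NormEq
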