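import Cfsg.Agent.NormEq.Basic
import Cfsg.Agent.S0215
import Cfsg.Agent.Lib.Transfer.Fusion

/-!
# Facts on simple groups used in the analysis
-/

set_option autoImplicit false
set_option linter.style.haveILetI false
set_option linter.unusedSectionVars false

namespace Cfsg.Agent.NormEq

open Subgroup Cfsg.Agent.Involutions

variable {G : Type*} [Group G] [Finite G] [IsSimpleGroup G]

theorem hom_trivial (hG : ¬ IsMulCommutative G) {A : Type*} [CommGroup A] (φ : G →* A) (x : G) :
    φ x = 1 := by
  rcases Subgroup.Normal.eq_bot_or_eq_top (inferInstance : φ.ker.Normal) with hb | ht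
  · exact absurd (⟨⟨fun a b => (MonoidHom.ker_eq_bot_iff φ).1 hb (by rw [map_mul, map_mul, mul_comm])⟩⟩ :
      IsMulCommutative G) hG
  · exact MonoidHom.mem_ker.1 (ht ▸ mem_top x)

/-- Some other conjugate of a central involution of a Sylow subgroup lies in it. -/
theorem exists_conj_ne (hG : ¬ IsMulCommutative G) (S : Sylow 2 G) {t : G} (ht : orderOf t = 2)
    (htS : t ∈ (S : Subgroup G)) : ∃ g : G, g * t * g⁻¹ ∈ (S : Subgroup G) ∧ g * t * g⁻¹ ≠ t := by
  by_contra hno
  push Not at hno
  obtain ⟨N, hN, hodd, hc⟩ := Cfsg.Agent.S0215.result S t ht htS hno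
  rcases hN.eq_bot_or_eq_top with hb | htop
  · have hz : t ∈ center G := mem_center_iff.2 fun g => by
      have := hc g
      rw [hb, mem_bot, mul_inv_eq_one, mul_inv_eq_iff_eq_mul] at this
      exact this.symm
    rcases Subgroup.Normal.eq_bot_or_eq_top (inferInstance : (center G).Normal) with hb' | ht'
    · exact Basic.ne_one ht (mem_bot.1 (hb' ▸ hz))
    · exact hG ⟨⟨fun a b => (mem_center_iff.1 (ht' ▸ mem_top a) b).symm⟩⟩
  · rw [htop, Nat.card_congr topEquiv.toEquiv] at hodd
    obtain ⟨m, hm⟩ := hodd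
    have h2 : 2 ∣ Nat.card G := ht ▸ orderOf_dvd_natCard t
    omega

/-- An element of least order outside a subgroup of index two of a Sylow subgroup has a conjugate in
that subgroup. -/
theorem exists_conj_mem_of_min (hG : ¬ IsMulCommutative G) (S : Sylow 2 G) (D : Subgroup G)
    (hrel : D.relIndex (S : Subgroup G) = 2) {x : G} (hx : x ∈ (S : Subgroup G)) (hxD : x ∉ D)
    (hmin : ∀ y ∈ (S : Subgroup G), y ∉ D → orderOf x ≤ orderOf y) :
    ∃ g : G, g * x * g⁻¹ ∈ D := by
  classical
  haveI : Fact (Nat.Prime 2) := ⟨Nat.prime_two⟩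
  by_contra hno
  push Not at hno
  set D' : Subgroup (S : Subgroup G) := D.subgroupOf (S : Subgroup G) with hD'
  have hidx : D'.index = 2 := hrel
  haveI : D'.Normal := Subgroup.normal_of_index_eq_two hidx
  have hcard : Nat.card ((S : Subgroup G) ⧸ D') = 2 := by rw [← index_eq_card, hidx]
  haveI : IsCyclic ((S : Subgroup G) ⧸ D') := isCyclic_of_prime_card hcard
  letI : CommGroup ((S : Subgroup G) ⧸ D') := IsCyclic.commGroup
  let φ : (S : Subgroup G) →* (S : Subgroup G) ⧸ D' := QuotientGroup.mk' D'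
  set σ := φ ⟨x, hx⟩ with hσ
  have hσ1 : σ ≠ 1 := fun e => hxD (by
    have := (QuotientGroup.eq_one_iff (N := D') ⟨x, hx⟩).1 e
    exact mem_subgroupOf.1 this)
  have hsq : σ ^ 2 = 1 := orderOf_dvd_iff_pow_eq_one.1 ((orderOf_dvd_natCard σ).trans hcard.dvd)
  haveI : Fintype (Quotient (MulAction.orbitRel (zpowers x) (G ⧸ (S : Subgroup G)))) := Fintype.ofFinite _
  obtain ⟨k, hk⟩ := IsPGroup.iff_card.1 (isPGroup_zpowers S.2 hx)
  rw [Nat.card_zpowers] at hk
  have key : MonoidHom.transfer φ x = σ ^ (S : Subgroup G).index := by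
    rw [MonoidHom.transfer_eq_prod_quotient_orbitRel_zpowers_quot,
      Subgroup.index_eq_sum_minimalPeriod (S : Subgroup G) x, ← Finset.prod_pow_eq_pow_sum]
    refine Finset.prod_congr rfl fun q _ => ?_
    set n := Function.minimalPeriod (x • ·) q.out with hn
    set c := q.out.out with hc
    have hcS : c⁻¹ * x ^ n * c ∈ (S : Subgroup G) :=
      QuotientGroup.out_conj_pow_minimalPeriod_mem _ x q.out
    have ho : orderOf (c⁻¹ * x ^ n * c) = orderOf (x ^ n) := by
      rw [show c⁻¹ * x ^ n * c = c⁻¹ * x ^ n * c⁻¹⁻¹ by group, Basic.orderOf_conj]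
    have hndvd : n ∣ 2 ^ k := by
      rw [← hk]
      refine Function.IsPeriodicPt.minimalPeriod_dvd ?_
      show (fun z => x • z)^[orderOf x] q.out = q.out
      rw [smul_iterate, pow_orderOf_eq_one]; exact one_smul G q.out
    obtain ⟨j, -, hj⟩ := (Nat.dvd_prime_pow Nat.prime_two).1 hndvd
    by_cases hcD : c⁻¹ * x ^ n * c ∈ D
    · have h1 : φ ⟨_, hcS⟩ = 1 := (QuotientGroup.eq_one_iff _).2 (mem_subgroupOf.2 hcD)
      rcases j with _ | j
      · exfalso
        rw [pow_zero] at hj
        rw [hj, pow_one] at hcD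
        exact hno c⁻¹ (by rwa [inv_inv])
      · rw [h1, ← hn, hj, pow_succ', pow_mul, hsq, one_pow]
    · have hle := hmin _ hcS hcD
      rw [ho, orderOf_pow] at hle
      have hg1 : Nat.gcd (orderOf x) n = 1 := by
        by_contra hne
        have hpos : 0 < Nat.gcd (orderOf x) n := Nat.gcd_pos_of_pos_left _ (orderOf_pos x)
        exact absurd hle (not_le.2 (Nat.div_lt_self (orderOf_pos x) (by omega)))
      have hn1 : n = 1 := by
        rwa [Nat.gcd_eq_right (hk ▸ hndvd)] at hg1
      have hab : ∀ a b : (S : Subgroup G) ⧸ D', a ≠ 1 → b ≠ 1 → a = b := fun a b ha hb => by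
        haveI : Fintype ((S : Subgroup G) ⧸ D') := Fintype.ofFinite _
        have : (Finset.univ : Finset ((S : Subgroup G) ⧸ D')).card = 2 := by
          rw [Finset.card_univ, ← Nat.card_eq_fintype_card, hcard]
        by_contra hne
        have h3 : ({1, a, b} : Finset ((S : Subgroup G) ⧸ D')).card = 3 := by
          rw [Finset.card_insert_of_notMem (by simp [ha.symm, hb.symm]),
            Finset.card_insert_of_notMem (by simpa using hne), Finset.card_singleton]
        have := Finset.card_le_univ ({1, a, b} : Finset ((S : Subgroup G) ⧸ D'))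
        rw [← Finset.card_univ] at this
        omega
      conv_rhs => rw [← hn, hn1, pow_one]
      exact hab _ _ (fun e => hcD (mem_subgroupOf.1 ((QuotientGroup.eq_one_iff (N := D') _).1 e))) hσ1
  rw [hom_trivial hG] at key
  obtain ⟨m, hm⟩ := Nat.odd_iff.2 (Nat.two_dvd_ne_zero.1 S.not_dvd_index)
  rw [hm, pow_succ, pow_mul, hsq, one_pow, one_mul] at key
  exact hσ1 key.symm

/-- Central elements of a Sylow subgroup conjugate in the group are conjugate in its normalizer. -/
theorem burnside (S : Sylow 2 G) {a b g : G} (hac : ∀ s ∈ (S : Subgroup G), Commute s a)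
    (hbc : ∀ s ∈ (S : Subgroup G), Commute s b) (hg : g * a * g⁻¹ = b) :
    ∃ n ∈ normalizer ((S : Subgroup G) : Set G), n * a * n⁻¹ = b := by
  obtain ⟨n, hn, e⟩ := Cfsg.Agent.Transfer.Fusion.burnside_fusion_set S (X := {a}) (Y := {b})
    (fun x hx => by simp [mul_inv_eq_iff_eq_mul.2 (hac x hx).eq])
    (fun x hx => by simp [mul_inv_eq_iff_eq_mul.2 (hbc x hx).eq])
    (g := g) (by simp [hg])
  exact ⟨n, hn, by simpa using e⟩

end Cfsg.Agent.NormEq
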