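import Cfsg.Agent.NormEq.Closed
import Cfsg.Agent.NormEq.Common
import Cfsg.Agent.Lib.PGroups.UniqueSubgroup
import Cfsg.Agent.Lib.Forms.DicksonShapes
import Cfsg.Agent.S0949

/-!
# Sylow subgroups with at least two central involutions
-/

set_option autoImplicit false
set_option linter.style.haveILetI false
set_option linter.unusedSectionVars false

namespace Cfsg.Agent.NormEq

open Subgroup Cfsg.Agent.Involutions

variable {G : Type*} [Group G] [Finite G]

theorem orderOf_mul_two {a b : G} (ha : orderOf a = 2) (hb : orderOf b = 2) (hne : a ≠ b)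
    (hab : Commute a b) : orderOf (a * b) = 2 :=
  Basic.orderOf_two_iff.2 ⟨by
    rw [mul_assoc, ← mul_assoc b a b, ← hab.eq, mul_assoc a b b, Basic.inv_sq_one hb, mul_one,
      Basic.inv_sq_one ha], fun e => hne (by rw [eq_inv_of_mul_eq_one_left e, Basic.inv_eq hb])⟩

/-- An element of order four gives one with square central in the Sylow subgroup. -/
theorem Nrm.exists_central_square (h : Nrm G) (S : Sylow 2 G) {y : G} (hyS : y ∈ (S : Subgroup G))
    (hy4 : (y * y) * (y * y) = 1) (hy2 : y * y ≠ 1) :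
    ∃ y' ∈ (S : Subgroup G), (y' * y') * (y' * y') = 1 ∧ y' * y' ≠ 1 ∧
      ∀ s ∈ (S : Subgroup G), Commute s (y' * y') := by
  classical
  obtain ⟨y, ⟨hyS, hy4, hy2⟩, hmax⟩ := Set.exists_max_image
    {a | a ∈ (S : Subgroup G) ∧ (a * a) * (a * a) = 1 ∧ a * a ≠ 1}
    (fun a => Nat.card ↥((S : Subgroup G) ⊓ centralizer ({a * a} : Set G)))
    (Set.toFinite _) ⟨y, hyS, hy4, hy2⟩
  refine ⟨y, hyS, hy4, hy2, ?_⟩
  by_contra hcon
  push Not at hcon
  obtain ⟨x₀, hx₀, hx₀s⟩ := hcon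
  obtain ⟨s, hs⟩ : ∃ s, s = y * y := ⟨_, rfl⟩
  rw [← hs] at hy4 hy2 hmax hx₀s
  have hs2 : orderOf s = 2 := Basic.orderOf_two_iff.2 ⟨hy4, hy2⟩
  have hsS : s ∈ (S : Subgroup G) := hs ▸ mul_mem hyS hyS
  haveI : Fact (Nat.Prime 2) := ⟨Nat.prime_two⟩
  haveI : Group.IsNilpotent (S : Subgroup G) := S.2.isNilpotent
  obtain ⟨R, hR⟩ : ∃ R, R = (S : Subgroup G) ⊓ centralizer ({s} : Set G) := ⟨_, rfl⟩
  rw [← hR] at hmax
  have memR : ∀ a, a ∈ R ↔ a ∈ (S : Subgroup G) ∧ Commute a s := fun a => by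
    rw [hR, mem_inf, mem_centralizer_singleton_iff]; rfl
  have hlt : R.subgroupOf (S : Subgroup G) < ⊤ := lt_top_iff_ne_top.2 fun e =>
    hx₀s ((memR x₀).1 (mem_subgroupOf.1 (e ▸ mem_top (⟨x₀, hx₀⟩ : (S : Subgroup G))))).2
  obtain ⟨g₀, hg₀, hg₀R⟩ := SetLike.exists_of_lt
    (Group.normalizerCondition_of_isNilpotent (G := (S : Subgroup G)) _ hlt)
  have hex : ∃ k : ℕ, g₀ ^ 2 ^ k ∈ R.subgroupOf (S : Subgroup G) := by
    obtain ⟨k, hk⟩ := S.2 g₀
    exact ⟨k, by rw [hk]; exact one_mem _⟩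
  obtain ⟨k, hk⟩ : ∃ k, Nat.find hex = k + 1 := ⟨Nat.find hex - 1, by
    have : Nat.find hex ≠ 0 := fun e => hg₀R (by
      have := Nat.find_spec hex; rwa [e, pow_zero, pow_one] at this)
    omega⟩
  obtain ⟨g', hg'⟩ : ∃ g', g' = g₀ ^ 2 ^ k := ⟨_, rfl⟩
  have hg'R : g' ∉ R.subgroupOf (S : Subgroup G) := hg' ▸ Nat.find_min hex (by omega)
  have hg'2 : (g' : G) * g' ∈ R := by
    have := Nat.find_spec hex
    rw [hk, pow_succ, pow_mul, ← hg', pow_two] at this
    exact mem_subgroupOf.1 this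
  have hg'n : g' ∈ normalizer ((R.subgroupOf (S : Subgroup G)) : Set (S : Subgroup G)) :=
    hg' ▸ pow_mem hg₀ _
  obtain ⟨g, hg⟩ : ∃ g, g = (g' : G) := ⟨_, rfl⟩
  have hgS : g ∈ (S : Subgroup G) := hg ▸ g'.2
  have hgR : ∀ a ∈ R, g * a * g⁻¹ ∈ R := fun a ha => by
    have := (mem_normalizer_iff.1 hg'n ⟨a, ((memR a).1 ha).1⟩).1 (mem_subgroupOf.2 ha)
    rw [hg]
    simpa [mem_subgroupOf] using this
  have hgs : ¬ Commute g s := fun k => hg'R (mem_subgroupOf.2 ((memR _).2 ⟨g'.2, hg ▸ k⟩))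
  rw [← hg] at hg'2
  have hpull : ∀ a ∈ R, Commute a (g * s * g⁻¹) := fun a ha => by
    have h3 : g⁻¹ * a * g ∈ R := by
      have := mul_mem (mul_mem (inv_mem hg'2) (hgR a ha)) hg'2
      rwa [show (g * g)⁻¹ * (g * a * g⁻¹) * (g * g) = g⁻¹ * a * g by group] at this
    have h4 := ((memR _).1 h3).2.map (MulAut.conj g).toMonoidHom
    simpa [mul_assoc] using h4
  have hyR : y ∈ R := (memR y).2 ⟨hyS, hs ▸ ((Commute.refl y).mul_right (Commute.refl y))⟩
  obtain ⟨y', hy'⟩ : ∃ y', y' = g * y * g⁻¹ := ⟨_, rfl⟩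
  have hy'R : y' ∈ R := hy' ▸ hgR y hyR
  obtain ⟨s', hs'⟩ : ∃ s', s' = g * s * g⁻¹ := ⟨_, rfl⟩
  rw [← hs'] at hpull
  have hne' : s ≠ s' := fun e => hgs (mul_inv_eq_iff_eq_mul.1 (hs' ▸ e.symm))
  have hs'2 : orderOf s' = 2 := by rw [hs', Basic.orderOf_conj, hs2]
  have hy's' : y' * y' = s' := by rw [hy', hs', hs]; group
  have hcy : Commute y y' := h.commute_of_ne (isPGroup_zpowers S.2 hyS) hs2
    (hs ▸ mul_mem (mem_zpowers y) (mem_zpowers y)) hs'2
    (hy's' ▸ mul_mem (mem_zpowers y') (mem_zpowers y')) hne' (hpull y hyR) ((memR y').1 hy'R).2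
  have hss' : Commute s s' := hpull s ((memR s).2 ⟨hsS, Commute.refl s⟩)
  have hsq : (y * y') * (y * y') = s * s' := by
    rw [mul_assoc, ← mul_assoc y' y y', ← hcy.eq, mul_assoc y y' y', hy's', ← mul_assoc, hs]
  have hfix : g * s' * g⁻¹ = s := by
    rw [hs', show g * (g * s * g⁻¹) * g⁻¹ = (g * g) * s * (g * g)⁻¹ by group,
      mul_inv_eq_iff_eq_mul.2 ((memR _).1 hg'2).2.eq]
  have ho := orderOf_mul_two hs2 hs'2 hne' hss'
  have hle := hmax (y * y') ⟨mul_mem hyS ((memR y').1 hy'R).1, by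
    rw [hsq]; exact Basic.inv_sq_one ho, by rw [hsq]; exact Basic.ne_one ho⟩
  rw [hsq] at hle
  have hRle : R ≤ (S : Subgroup G) ⊓ centralizer ({s * s'} : Set G) := fun a ha =>
    mem_inf.2 ⟨((memR a).1 ha).1,
      mem_centralizer_singleton_iff.2 (((memR a).1 ha).2.mul_right (hpull a ha)).eq⟩
  have hgin : g ∈ (S : Subgroup G) ⊓ centralizer ({s * s'} : Set G) := by
    refine mem_inf.2 ⟨hgS, mem_centralizer_singleton_iff.2 (mul_inv_eq_iff_eq_mul.1 ?_)⟩
    rw [show g * (s * s') * g⁻¹ = (g * s * g⁻¹) * (g * s' * g⁻¹) by group, hfix, ← hs', hss'.eq]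
  exact hgs ((memR g).1 ((Subgroup.eq_of_le_of_card_ge hRle hle) ▸ hgin)).2

/-- Commutators of elements acting on `⟨x⟩` as powers centralize `x`. -/
theorem commutator_fix {y z x : G} {m k : ℤ} (hy : y * x * y⁻¹ = x ^ m) (hz : z * x * z⁻¹ = x ^ k) :
    Commute (z⁻¹ * y⁻¹ * z * y) x := by
  have e1 : (y * z) * x * (y * z)⁻¹ = x ^ (m * k) := by
    rw [show y * z * x * (y * z)⁻¹ = y * (z * x * z⁻¹) * y⁻¹ by group, hz, ← conj_zpow, hy, zpow_mul]
  have e2 : (z * y) * x * (z * y)⁻¹ = x ^ (m * k) := by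
    rw [show z * y * x * (z * y)⁻¹ = z * (y * x * y⁻¹) * z⁻¹ by group, hy, ← conj_zpow, hz, ← zpow_mul,
      mul_comm]
  refine mul_inv_eq_iff_eq_mul.1 ?_
  calc z⁻¹ * y⁻¹ * z * y * x * (z⁻¹ * y⁻¹ * z * y)⁻¹
      = (y * z)⁻¹ * ((z * y) * x * (z * y)⁻¹) * (y * z) := by group
    _ = x := by rw [e2, ← e1]; group

/-- The data for the theorem of Brauer, Suzuki and Wall. -/
def Dih (S : Sylow 2 G) (t : G) : Prop :=
  orderOf t = 2 ∧ t ∈ (S : Subgroup G) ∧ (∀ s ∈ (S : Subgroup G), Commute s t) ∧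
    ∃ (C : Subgroup G) (n : ℕ), 2 ≤ n ∧ C ≤ (S : Subgroup G) ∧ IsCyclic C ∧
      C.relIndex (S : Subgroup G) = 2 ∧ Nonempty ((S : Subgroup G) ≃* DihedralGroup n) ∧
      (∀ c ∈ C, c ≠ 1 → t ∈ zpowers c) ∧
      (∀ s ∈ (S : Subgroup G), s ∉ C → orderOf s = 2) ∧
      (odds t ≠ ⊥ → ∀ s ∈ (S : Subgroup G), orderOf s = 2 → s ≠ t →
        centralizer ({s} : Set G) ≠ centralizer ({t} : Set G))

/-- A group with commuting elements, three central involutions and exponent `2 ^ a`. -/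
theorem card_layer_le (S : Subgroup G) (hcomm : ∀ y ∈ S, ∀ z ∈ S, Commute y z) (I : Finset G)
    (hI : ∀ i ∈ S, i * i = 1 → i ∈ I) : ∀ k : ℕ, Nat.card {s : S // s ^ (2 ^ k) = 1} ≤ I.card ^ k := by
  classical
  intro k
  induction k with
  | zero =>
    simp only [pow_zero, pow_one]
    exact Finite.card_le_one_iff_subsingleton.2 ⟨fun a b => Subtype.ext (a.2.trans b.2.symm)⟩
  | succ k ih =>
    let f : {s : S // s ^ (2 ^ (k + 1)) = 1} → {s : S // s ^ (2 ^ k) = 1} := fun s =>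
      ⟨s.1 * s.1, by rw [← pow_two, ← pow_mul, ← pow_succ']; exact s.2⟩
    have hsec : ∀ b, ∃ c : S, ∀ s, f s = b → (s.1 : G) * (c : G)⁻¹ ∈ I := by
      intro b
      by_cases hb : ∃ s, f s = b
      · obtain ⟨s₀, hs₀⟩ := hb
        refine ⟨s₀.1, fun s hs => hI _ (mul_mem s.1.2 (inv_mem s₀.1.2)) ?_⟩
        have h1 : (s.1 : G) * s.1 = (s₀.1 : G) * s₀.1 := by
          have := congrArg (fun v : {v : S // v ^ (2 ^ k) = 1} => ((v.1 : S) : G)) (hs.trans hs₀.symm)
          simpa [f] using this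
        have hc := (hcomm _ s.1.2 _ s₀.1.2).inv_right
        rw [mul_assoc, ← mul_assoc ((s₀.1 : G)⁻¹), ← hc.eq, mul_assoc (s.1 : G) _ (s₀.1 : G)⁻¹,
          ← mul_inv_rev, ← mul_assoc, h1, mul_inv_cancel]
      · exact ⟨1, fun s hs => absurd ⟨s, hs⟩ hb⟩
    choose c hc using hsec
    let F : {s : S // s ^ (2 ^ (k + 1)) = 1} → {s : S // s ^ (2 ^ k) = 1} × I := fun s =>
      (f s, ⟨(s.1 : G) * (c (f s) : G)⁻¹, hc _ s rfl⟩)
    have hF : Function.Injective F := fun a b e => by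
      have e1 : f a = f b := congrArg Prod.fst e
      have e2 : (a.1 : G) * (c (f a) : G)⁻¹ = (b.1 : G) * (c (f b) : G)⁻¹ :=
        congrArg (fun v : {s : S // s ^ (2 ^ k) = 1} × I => (v.2 : G)) e
      rw [e1] at e2
      exact Subtype.ext (Subtype.ext (mul_right_cancel e2))
    calc _ ≤ Nat.card ({s : S // s ^ (2 ^ k) = 1} × I) := Nat.card_le_card_of_injective F hF
      _ ≤ I.card ^ k * I.card := by
        rw [Nat.card_prod, Nat.card_eq_fintype_card (α := I), Fintype.card_coe]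
        exact Nat.mul_le_mul_right _ ih
      _ = I.card ^ (k + 1) := (pow_succ _ _).symm

variable [IsSimpleGroup G]

/-- Two central involutions with the same centralizer and nontrivial odd core. -/
theorem closed_case (h : Nrm G) (hG : ¬ IsMulCommutative G) {t e x : G} (ht : orderOf t = 2)
    (he : orderOf e = 2) (hne : e ≠ t) (hxo : Odd (orderOf x)) (hx1 : x ≠ 1) (hxt : Commute x t)
    (hce : centralizer ({e} : Set G) = centralizer ({t} : Set G)) :
    ∀ r : G, orderOf r = 2 → IsMulCommutative (centralizer ({r} : Set G)) := by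
  let inE : G → Prop := fun a => orderOf a = 2 ∧ centralizer ({a} : Set G) = centralizer ({t} : Set G)
  have inC : ∀ {a c : G}, inE a → (Commute c a ↔ Commute c t) := fun {a c} ha => by
    have := SetLike.ext_iff.1 ha.2 c
    rwa [mem_centralizer_singleton_iff, mem_centralizer_singleton_iff] at this
  have hmul : ∀ {a b : G}, inE a → inE b → a ≠ b → inE (a * b) := by
    intro a b ha hb hab
    have hcomm : Commute a b := ((inC ha).2 ((inC hb).1 (Commute.refl b))).symm
    have h2 := orderOf_mul_two ha.1 hb.1 hab hcomm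
    exact ⟨h2, h.cent_eq_of_comm ht h2 hxo hx1 hxt (((inC ha).2 hxt).mul_right ((inC hb).2 hxt))⟩
  let E : Subgroup G :=
    { carrier := {a | a = 1 ∨ inE a}
      one_mem' := Or.inl rfl
      mul_mem' := by
        rintro a b (rfl | ha) (rfl | hb)
        · simp
        · simp [hb]
        · simp [ha]
        · rcases eq_or_ne a b with rfl | hab
          · exact Or.inl (Basic.inv_sq_one ha.1)
          · exact Or.inr (hmul ha hb hab)
      inv_mem' := by
        rintro a (rfl | ha)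
        · simp
        · exact Or.inr (by rw [Basic.inv_eq ha.1]; exact ha) }
  have H : Closed E (centralizer ({t} : Set G)) t e :=
    { mem₁ := Or.inr ⟨ht, rfl⟩
      mem₂ := Or.inr ⟨he, hce⟩
      ne₁ := Basic.ne_one ht
      ne₂ := Basic.ne_one he
      ne := hne.symm
      sq := by
        rintro a (rfl | ha)
        · simp
        · exact Basic.inv_sq_one ha.1
      cent := fun a ha ha1 => ((ha : a = 1 ∨ inE a).resolve_left ha1).2
      closed := by
        intro a ha ha1 g hg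
        have hae : inE a := (ha : a = 1 ∨ inE a).resolve_left ha1
        have hu : orderOf (g * a * g⁻¹) = 2 := by rw [Basic.orderOf_conj, hae.1]
        refine Or.inr ⟨hu, ?_⟩
        have hgt : Commute (g * a * g⁻¹) t := mem_centralizer_singleton_iff.1 hg
        have heI : inE e := ⟨he, hce⟩
        have hge : Commute (g * a * g⁻¹) e := (inC heI).2 hgt
        have hte : Commute t e := (inC heI).2 (Commute.refl t)
        obtain ⟨e', he', hc'⟩ := h.exists_cent_eq (x := g * x * g⁻¹) ht he hne.symm hte hu hgt.symm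
          hge.symm (by rwa [Basic.orderOf_conj]) (fun k => hx1 (conj_eq_one_iff.1 k))
          (((inC hae).2 hxt).map (MulAut.conj g).toMonoidHom)
        rcases he' with rfl | rfl | rfl
        · exact hc'.symm
        · exact hc'.symm.trans hce
        · exact hc'.symm.trans (hmul ⟨ht, rfl⟩ heI hne.symm).2 }
  exact H.main h hG

/-- A central involution with nontrivial odd core, and another central involution. -/
theorem odd_case (h : Nrm G) (hG : ¬ IsMulCommutative G) (S : Sylow 2 G) {t v x : G}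
    (ht : orderOf t = 2) (htS : t ∈ (S : Subgroup G)) (htc : ∀ s ∈ (S : Subgroup G), Commute s t)
    (hv : orderOf v = 2) (hvS : v ∈ (S : Subgroup G)) (hvc : ∀ s ∈ (S : Subgroup G), Commute s v)
    (hvt : v ≠ t) (hxo : Odd (orderOf x)) (hx1 : x ≠ 1) (hxt : Commute x t) :
    (∀ r : G, orderOf r = 2 → IsMulCommutative (centralizer ({r} : Set G))) ∨ Dih S t := by
  classical
  haveI : Fact (Nat.Prime 2) := ⟨Nat.prime_two⟩
  by_cases hA : ∃ e ∈ (S : Subgroup G), orderOf e = 2 ∧ e ≠ t ∧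
      centralizer ({e} : Set G) = centralizer ({t} : Set G)
  · obtain ⟨e, -, he, hne, hce⟩ := hA
    exact Or.inl (closed_case h hG ht he hne hxo hx1 hxt hce)
  push Not at hA
  have hx : x ∈ odds t := (h.mem_odds ht).2 ⟨hxt, hxo⟩
  have inv : ∀ e ∈ (S : Subgroup G), orderOf e = 2 → e ≠ t → e * x * e⁻¹ = x⁻¹ := fun e heS he hne =>
    h.invert ht he (htc e heS) (hA e heS he hne) hx
  have hvt' : Commute v t := htc v hvS
  have htv2 := orderOf_mul_two hv ht hvt hvt'
  have inv3 : ∀ i ∈ (S : Subgroup G), orderOf i = 2 → i = t ∨ i = v ∨ i = v * t := by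
    intro i hiS hi
    by_contra hcon
    push Not at hcon
    obtain ⟨h1, h2, h3⟩ := hcon
    have hiv := orderOf_mul_two hi hv h2 (hvc i hiS)
    have hne : i * v ≠ t := fun e => h3 (by
      rw [← hvt'.symm.eq, ← e, mul_assoc, Basic.inv_sq_one hv, mul_one])
    refine hA _ (mul_mem hiS hvS) hiv hne (h.cent_eq_of_comm ht hiv hxo hx1 hxt (Commute.symm ?_))
    refine mul_inv_eq_iff_eq_mul.1 ?_
    rw [show i * v * x * (i * v)⁻¹ = i * (v * x * v⁻¹) * i⁻¹ by group, inv v hvS hv hvt, ← conj_inv,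
      inv i hiS hi h1, inv_inv]
  have hcen : ∀ i ∈ (S : Subgroup G), orderOf i = 2 → ∀ s ∈ (S : Subgroup G), Commute s i := by
    intro i hiS hi s hs
    rcases inv3 i hiS hi with rfl | rfl | rfl
    · exact htc s hs
    · exact hvc s hs
    · exact (hvc s hs).mul_right (htc s hs)
  -- an element of the normalizer moving `t`
  obtain ⟨g, hgS, hgne⟩ := exists_conj_ne hG S ht htS
  obtain ⟨n, hn, hnt⟩ := burnside S htc (hcen _ hgS (by rw [Basic.orderOf_conj, ht])) (g := g) rfl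
  rw [← hnt] at hgS hgne
  have hS2 : ∀ {y : G}, y ∈ (S : Subgroup G) → IsPGroup 2 (zpowers y) := fun hy => isPGroup_zpowers S.2 hy
  have xpow : ∀ s ∈ (S : Subgroup G), ∃ m : ℤ, s * x * s⁻¹ = x ^ m := fun s hs => by
    obtain ⟨m, hm⟩ := mem_zpowers_iff.1 (conj_mem_of_norm (y := x) (g := s) (by
      rw [h.norm_odd ht hxo hx1 hxt]; exact mem_centralizer_singleton_iff.2 (htc s hs).eq))
    exact ⟨m, hm.symm⟩
  have nconj : ∀ {s : G}, s ∈ (S : Subgroup G) → n * s * n⁻¹ ∈ (S : Subgroup G) := fun {s} hs =>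
    (mem_normalizer_iff.1 hn s).1 hs
  have noncomm : ∀ {y z : G}, y ∈ (S : Subgroup G) → z ∈ (S : Subgroup G) → ¬ Commute y z →
      t ∈ zpowers y := by
    intro y z hy hz hne
    obtain ⟨s, hs, hsy⟩ := exists_inv (hS2 hy) (fun e => hne (e ▸ Commute.one_left z))
    obtain ⟨r, hr, hrz⟩ := exists_inv (hS2 hz) (fun e => hne (e ▸ Commute.one_right y))
    have hsS : s ∈ (S : Subgroup G) := zpowers_le.2 hy hsy
    have hrS : r ∈ (S : Subgroup G) := zpowers_le.2 hz hrz
    have h1 : z⁻¹ * y⁻¹ * z * y ∈ zpowers y := by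
      refine mul_mem ?_ (mem_zpowers y)
      have := h.conj_mem hs hsy (g := z⁻¹) ((hcen s hsS hs z hz).inv_left)
      rw [inv_inv] at this
      simpa [mul_assoc] using inv_mem this
    obtain ⟨m, hm⟩ := xpow y hy
    obtain ⟨k, hk⟩ := xpow z hz
    have hcx := commutator_fix hm hk
    have hc1 : z⁻¹ * y⁻¹ * z * y ≠ 1 := fun e => hne (by
      rw [mul_assoc (z⁻¹ * y⁻¹), mul_eq_one_iff_inv_eq, mul_inv_rev, inv_inv, inv_inv] at e
      exact e)
    have hcS : z⁻¹ * y⁻¹ * z * y ∈ (S : Subgroup G) :=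
      mul_mem (mul_mem (mul_mem (inv_mem hz) (inv_mem hy)) hz) hy
    obtain ⟨i, hi, hic⟩ := exists_inv (hS2 hcS) hc1
    have hiS : i ∈ (S : Subgroup G) := zpowers_le.2 hcS hic
    have hit : i = t := by
      by_contra hne'
      exact hA i hiS hi hne' (h.cent_of_fix ht hi hic hx hx1 hcx)
    exact hit ▸ zpowers_le.2 h1 hic
  have hcomm : ∀ y ∈ (S : Subgroup G), ∀ z ∈ (S : Subgroup G), Commute y z := by
    intro y hy z hz
    by_contra hne
    have h1 := noncomm hy hz hne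
    have h2 := noncomm (nconj hy) (nconj hz) fun k => hne ((Commute.conj_iff n).1 k)
    have h3 : n * t * n⁻¹ ∈ zpowers (n * y * n⁻¹) := by
      obtain ⟨j, hj⟩ := mem_zpowers_iff.1 h1
      exact ⟨j, by rw [← hj]; exact conj_zpow⟩
    exact hgne (inv_unique ht (by rw [Basic.orderOf_conj, ht]) h2 h3)
  -- an element of odd order permuting the involutions transitively
  obtain ⟨a, b, ha, hb, ha2, hbo, hab⟩ := exists_parts n
  have haN : a ∈ normalizer ((S : Subgroup G) : Set G) := zpowers_le.2 hn ha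
  have hbN : b ∈ normalizer ((S : Subgroup G) : Set G) := zpowers_le.2 hn hb
  have haS : a ∈ (S : Subgroup G) := by
    have hsup := S.is_maximal' (S.2.to_sup_of_normal_left' ha2 (zpowers_le.2 haN)) le_sup_left
    rw [← hsup]
    exact mem_sup_right (mem_zpowers a)
  have bconj : ∀ {s : G}, s ∈ (S : Subgroup G) → b * s * b⁻¹ ∈ (S : Subgroup G) := fun {s} hs =>
    (mem_normalizer_iff.1 hbN s).1 hs
  have hbt : b * t * b⁻¹ ≠ t := fun e => hgne (by
    rw [hab, show a * b * t * (a * b)⁻¹ = a * (b * t * b⁻¹) * a⁻¹ by group, e]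
    exact mul_inv_eq_iff_eq_mul.2 (htc a haS).eq)
  have ord2 : ∀ {w : G}, orderOf w = 2 → orderOf (b * w * b⁻¹) = 2 := fun hw => by
    rw [Basic.orderOf_conj, hw]
  obtain ⟨v', hv'⟩ : ∃ v', v' = b * t * b⁻¹ := ⟨_, rfl⟩
  have hv'S : v' ∈ (S : Subgroup G) := hv' ▸ bconj htS
  have hv'2 : orderOf v' = 2 := hv' ▸ ord2 ht
  have hbb : b * v' * b⁻¹ ≠ t := by
    intro e
    apply hbt
    obtain ⟨m, hm⟩ := hbo
    have h2 : Commute (b * b) t := mul_inv_eq_iff_eq_mul.1 (by
      rw [show b * b * t * (b * b)⁻¹ = b * (b * t * b⁻¹) * b⁻¹ by group, ← hv', e])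
    have hb' : b = (b * b) ^ (m + 1) := by
      rw [← pow_two, ← pow_mul, show 2 * (m + 1) = orderOf b + 1 by omega, pow_succ, pow_orderOf_eq_one,
        one_mul]
    rw [hb']
    exact mul_inv_eq_iff_eq_mul.2 (h2.pow_left _).eq
  have trans : ∀ w ∈ (S : Subgroup G), orderOf w = 2 → w = t ∨ w = v' ∨ w = b * v' * b⁻¹ := by
    intro w hwS hw
    have hA' := inv3 w hwS hw
    have hB' := inv3 v' hv'S hv'2
    have hC' := inv3 _ (bconj hv'S) (ord2 hv'2)
    have hne : b * v' * b⁻¹ ≠ v' := fun e => hbt (by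
      rw [← hv']
      exact mul_left_cancel (mul_right_cancel (e.trans hv')))
    have hv't : v' ≠ t := hv' ▸ hbt
    rcases hB' with e1 | e1 | e1
    · exact absurd e1 hv't
    · rcases hC' with e2 | e2 | e2
      · exact absurd e2 hbb
      · exact absurd (e2.trans e1.symm) hne
      · rcases hA' with e | e | e
        · exact Or.inl e
        · exact Or.inr (Or.inl (e.trans e1.symm))
        · exact Or.inr (Or.inr (e.trans e2.symm))
    · rcases hC' with e2 | e2 | e2
      · exact absurd e2 hbb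
      · rcases hA' with e | e | e
        · exact Or.inl e
        · exact Or.inr (Or.inr (e.trans e2.symm))
        · exact Or.inr (Or.inl (e.trans e1.symm))
      · exact absurd (e2.trans e1.symm) hne
  obtain ⟨S₀, hS₀⟩ : ∃ S₀, S₀ = (S : Subgroup G) ⊓ centralizer ({x} : Set G) := ⟨_, rfl⟩
  have mem₀ : ∀ y, y ∈ S₀ ↔ y ∈ (S : Subgroup G) ∧ Commute y x := fun y => by
    rw [hS₀, mem_inf, mem_centralizer_singleton_iff]; rfl
  have hS₀S : S₀ ≤ (S : Subgroup G) := hS₀ ▸ inf_le_left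
  have inv₀ : ∀ i ∈ S₀, orderOf i = 2 → i = t := fun i hi hi2 => by
    by_contra hne
    exact hA i (hS₀S hi) hi2 hne (h.cent_of_fix ht hi2 (mem_zpowers i) hx hx1 ((mem₀ i).1 hi).2)
  haveI : IsMulCommutative S₀ := ⟨⟨fun p q => Subtype.ext (hcomm p (hS₀S p.2) q (hS₀S q.2)).eq⟩⟩
  haveI hcyc : IsCyclic S₀ := by
    refine Cfsg.Agent.PGroups.UniqueSubgroup.isCyclic_of_abelian (S.2.to_le hS₀S) fun p q hp hq hp1 => ?_
    have hp' : orderOf (p : G) = 2 := by
      rw [orderOf_coe]; exact orderOf_eq_prime hp hp1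
    rcases eq_or_ne q 1 with rfl | hq1
    · exact one_mem _
    have hq' : orderOf (q : G) = 2 := by
      rw [orderOf_coe]; exact orderOf_eq_prime hq hq1
    rw [show q = p from Subtype.ext ((inv₀ q q.2 hq').trans (inv₀ p p.2 hp').symm)]
    exact mem_zpowers _
  obtain ⟨⟨y₀, hy₀⟩, hgen⟩ := hcyc.exists_generator
  obtain ⟨k, hk⟩ := IsPGroup.iff_card.1 (hS2 (hS₀S hy₀))
  rw [Nat.card_zpowers] at hk
  have pow₀ : ∀ s ∈ (S : Subgroup G), t ∈ zpowers s → s ^ 2 ^ k = 1 := by
    intro s hs hts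
    have hs0 : s ∈ S₀ := (mem₀ s).2 ⟨hs, h.fix_of_cent ht (hS2 hs) ht hts rfl hx⟩
    obtain ⟨j, hj⟩ := mem_zpowers_iff.1 (hgen ⟨s, hs0⟩)
    have hj' : y₀ ^ j = s := by simpa using congrArg Subtype.val hj
    rw [← hj', ← zpow_natCast, ← zpow_mul, mul_comm, zpow_mul, zpow_natCast, ← hk, pow_orderOf_eq_one,
      one_zpow]
  have bzp : ∀ {s w : G}, w ∈ zpowers s → b⁻¹ * w * b ∈ zpowers (b⁻¹ * s * b) := fun {s w} hw => by
    obtain ⟨j, rfl⟩ := mem_zpowers_iff.1 hw
    exact ⟨j, by simpa using (conj_zpow (i := j) (a := b⁻¹) (b := s))⟩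
  have powS : ∀ s ∈ (S : Subgroup G), s ^ 2 ^ k = 1 := by
    intro s hs
    rcases eq_or_ne s 1 with rfl | hs1
    · exact one_pow _
    obtain ⟨i, hi, his⟩ := exists_inv (hS2 hs) hs1
    have binv : ∀ {r : G}, r ∈ (S : Subgroup G) → b⁻¹ * r * b ∈ (S : Subgroup G) := fun {r} hr => by
      have := (mem_normalizer_iff.1 (inv_mem hbN) r).1 hr
      rwa [inv_inv] at this
    have cpow : ∀ {r : G}, (b⁻¹ * r * b) ^ 2 ^ k = 1 → r ^ 2 ^ k = 1 := fun {r} hr => by
      have h1 : b⁻¹ * r ^ (2 ^ k) * b⁻¹⁻¹ = 1 := by rw [← conj_pow, inv_inv]; exact hr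
      exact conj_eq_one_iff.1 h1
    rcases trans i (zpowers_le.2 hs his) hi with rfl | rfl | rfl
    · exact pow₀ s hs his
    · refine cpow (pow₀ _ (binv hs) ?_)
      have := bzp his
      rwa [hv', show b⁻¹ * (b * t * b⁻¹) * b = t by group] at this
    · refine cpow (cpow (pow₀ _ (binv (binv hs)) ?_))
      have := bzp (bzp his)
      rwa [hv', show b⁻¹ * (b⁻¹ * (b * (b * t * b⁻¹) * b⁻¹) * b) * b = t by group] at this
  -- the order
  have hle : Nat.card (S : Subgroup G) ≤ 4 ^ k := by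
    have h1 := card_layer_le (S : Subgroup G) hcomm ({1, t, v, v * t} : Finset G) (fun i hi hii => by
      rcases eq_or_ne i 1 with rfl | hi1
      · simp
      rcases inv3 i hi (Basic.orderOf_two_iff.2 ⟨hii, hi1⟩) with rfl | rfl | rfl <;> simp) k
    have h2 : Nat.card {s : (S : Subgroup G) // s ^ 2 ^ k = 1} = Nat.card (S : Subgroup G) :=
      Nat.card_congr ⟨Subtype.val, fun s => ⟨s, Subtype.ext (by simpa using powS s s.2)⟩,
        fun _ => rfl, fun _ => rfl⟩
    rw [h2] at h1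
    refine h1.trans (Nat.pow_le_pow_left ?_ k)
    refine (Finset.card_insert_le _ _).trans ?_
    refine Nat.succ_le_succ ((Finset.card_insert_le _ _).trans ?_)
    exact Nat.succ_le_succ ((Finset.card_insert_le _ _).trans (by simp))
  obtain ⟨y₁, hy₁⟩ : ∃ y₁, y₁ = b * y₀ * b⁻¹ := ⟨_, rfl⟩
  have hy₁o : orderOf y₁ = 2 ^ k := by rw [hy₁, Basic.orderOf_conj, hk]
  have hy₁S : y₁ ∈ (S : Subgroup G) := hy₁ ▸ bconj (hS₀S hy₀)
  have hty₀ : t ∈ zpowers y₀ := by
    have htS₀ : t ∈ S₀ := (mem₀ t).2 ⟨htS, hxt.symm⟩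
    obtain ⟨j, hj⟩ := mem_zpowers_iff.1 (hgen ⟨t, htS₀⟩)
    exact ⟨j, by simpa using congrArg Subtype.val hj⟩
  have hty₁ : v' ∈ zpowers y₁ := by
    obtain ⟨j, hj⟩ := mem_zpowers_iff.1 hty₀
    exact ⟨j, by rw [hy₁, hv', ← hj]; exact conj_zpow⟩
  let F : zpowers y₀ × zpowers y₁ →* (S : Subgroup G) :=
    { toFun := fun p => ⟨(p.1 : G) * p.2,
        mul_mem (zpowers_le.2 (hS₀S hy₀) p.1.2) (zpowers_le.2 hy₁S p.2.2)⟩
      map_one' := Subtype.ext (by simp)
      map_mul' := fun p q => Subtype.ext (by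
        show (p.1 : G) * q.1 * ((p.2 : G) * q.2) = (p.1 : G) * p.2 * ((q.1 : G) * q.2)
        have hc := (hcomm _ (zpowers_le.2 (hS₀S hy₀) q.1.2) _ (zpowers_le.2 hy₁S p.2.2)).eq
        rw [mul_assoc, ← mul_assoc (q.1 : G), hc, mul_assoc (p.2 : G), ← mul_assoc]) }
  have hF : Function.Injective F := by
    rw [injective_iff_map_eq_one]
    intro p hp
    have e : (p.1 : G) * p.2 = 1 := congrArg Subtype.val hp
    have h1 : (p.1 : G) = 1 := zpowers_inf_eq_one (hS2 (hS₀S hy₀)) ht hty₀ hv'2 hty₁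
      (fun e' => hbt (hv'.symm.trans e'.symm)) p.1.2 (by
        rw [eq_inv_of_mul_eq_one_left e]; exact inv_mem p.2.2)
    rw [h1, one_mul] at e
    exact Prod.ext (Subtype.ext h1) (Subtype.ext e)
  have hcard2 : Nat.card (zpowers y₀ × zpowers y₁) = 4 ^ k := by
    rw [Nat.card_prod, Nat.card_zpowers, Nat.card_zpowers, hk, hy₁o, ← Nat.mul_pow]
  have hbij : Function.Bijective F :=
    hF.bijective_of_nat_card_le (hcard2 ▸ hle)
  have hk0 : k ≠ 0 := by
    rintro rfl
    rw [pow_zero, orderOf_eq_one_iff] at hk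
    rw [hk, zpowers_one_eq_bot, mem_bot] at hty₀
    exact Basic.ne_one ht hty₀
  rcases Nat.lt_or_ge k 2 with hk1 | hk2
  · -- a four group
    obtain rfl : k = 1 := by omega
    right
    have hScard : Nat.card (S : Subgroup G) = 4 := by
      rw [← Nat.card_congr (MulEquiv.ofBijective F hbij).toEquiv, hcard2, pow_one]
    have hsq : ∀ s ∈ (S : Subgroup G), s * s = 1 := fun s hs => by
      have := powS s hs
      rwa [pow_one, pow_two] at this
    have htle : zpowers t ≤ (S : Subgroup G) := zpowers_le.2 htS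
    have hrel : (zpowers t).relIndex (S : Subgroup G) = 2 := by
      have := ((zpowers t).subgroupOf (S : Subgroup G)).card_mul_index
      rw [Nat.card_congr (subgroupOfEquivOfLe htle).toEquiv, Nat.card_zpowers, ht, hScard] at this
      show ((zpowers t).subgroupOf (S : Subgroup G)).index = 2
      omega
    obtain ⟨c, -, hco, hiso⟩ := Cfsg.Agent.Forms.DicksonShapes.dihedral_of
      ((zpowers t).subgroupOf (S : Subgroup G)) hrel ((subgroupOfEquivOfLe htle).isCyclic.2 inferInstance)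
      (fun s _ => Subtype.ext (hsq s s.2))
    refine ⟨ht, htS, htc, zpowers t, orderOf c, ?_, htle, inferInstance, hrel, hiso, fun e he he1 => ?_,
      fun s hs hsC => Basic.orderOf_two_iff.2 ⟨hsq s hs, fun e => hsC (e ▸ one_mem _)⟩,
      fun _ => hA⟩
    · rw [hco, Nat.card_congr (subgroupOfEquivOfLe htle).toEquiv, Nat.card_zpowers, ht]
    · rw [(mem_zpowers_two ht he).resolve_left he1]; exact mem_zpowers t
  · -- homocyclic
    exfalso
    haveI : NeZero (2 ^ k) := ⟨by positivity⟩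
    have e : (S : Subgroup G) ≃* Multiplicative (ZMod (2 ^ k) × ZMod (2 ^ k)) :=
      (MulEquiv.ofBijective F hbij).symm.trans (((mulEquivOfCyclicCardEq (by
          rw [Nat.card_zpowers, hk, Nat.card_congr Multiplicative.toAdd, Nat.card_zmod])).prodCongr
        (mulEquivOfCyclicCardEq (by
          rw [Nat.card_zpowers, hy₁o, Nat.card_congr Multiplicative.toAdd, Nat.card_zmod]))).trans
        (MulEquiv.prodMultiplicative (ZMod (2 ^ k)) (ZMod (2 ^ k))).symm)
    have hN := (Cfsg.Agent.S0949.result S k hk2 e fun N hN hodd => by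
      rcases hN.eq_bot_or_eq_top with hb | ht'
      · exact hb
      · exfalso
        rw [ht', Nat.card_congr topEquiv.toEquiv] at hodd
        obtain ⟨j, hj⟩ := hodd
        have h2 : 2 ∣ Nat.card G := ht ▸ orderOf_dvd_natCard t
        omega).1
    rcases hN.eq_bot_or_eq_top with hb | ht'
    · exact Basic.ne_one ht (mem_bot.1 (hb ▸ htS))
    · exact hG ⟨⟨fun p q => (hcomm p (ht' ▸ mem_top p) q (ht' ▸ mem_top q)).eq⟩⟩

/-- Two central involutions. -/
theorem center_four (h : Nrm G) (hG : ¬ IsMulCommutative G) (S : Sylow 2 G) {a b : G}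
    (ha : orderOf a = 2) (hb : orderOf b = 2) (hab : a ≠ b) (haS : a ∈ (S : Subgroup G))
    (hbS : b ∈ (S : Subgroup G)) (hac : ∀ s ∈ (S : Subgroup G), Commute s a)
    (hbc : ∀ s ∈ (S : Subgroup G), Commute s b) :
    (∀ r : G, orderOf r = 2 → IsMulCommutative (centralizer ({r} : Set G))) ∨ ∃ t, Dih S t := by
  classical
  haveI : Fact (Nat.Prime 2) := ⟨Nat.prime_two⟩
  by_cases hodd : ∃ t x : G, orderOf t = 2 ∧ t ∈ (S : Subgroup G) ∧
      (∀ s ∈ (S : Subgroup G), Commute s t) ∧ x ≠ 1 ∧ Odd (orderOf x) ∧ Commute x t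
  · obtain ⟨t, x, ht, htS, htc, hx1, hxo, hxt⟩ := hodd
    obtain ⟨v, hv, hvS, hvc, hvt⟩ : ∃ v, orderOf v = 2 ∧ v ∈ (S : Subgroup G) ∧
        (∀ s ∈ (S : Subgroup G), Commute s v) ∧ v ≠ t := by
      by_cases hat : a = t
      · exact ⟨b, hb, hbS, hbc, fun e => hab (hat.trans e.symm)⟩
      · exact ⟨a, ha, haS, hac, hat⟩
    exact (odd_case h hG S ht htS htc hv hvS hvc hvt hxo hx1 hxt).imp id fun hd => ⟨t, hd⟩
  push Not at hodd
  let Cen : G → Prop := fun z => orderOf z = 2 ∧ z ∈ (S : Subgroup G) ∧ ∀ s ∈ (S : Subgroup G), Commute s z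
  have centS : ∀ {z : G}, Cen z → centralizer ({z} : Set G) = (S : Subgroup G) := by
    intro z hz
    refine S.is_maximal' ?_ fun s hs => mem_centralizer_singleton_iff.2 (hz.2.2 s hs).eq
    intro c
    obtain ⟨p, q, -, hq, hp2, hqo, hc⟩ := exists_parts (c : G)
    have hq1 : q = 1 := by
      by_contra hq1
      exact hodd z q hz.1 hz.2.1 hz.2.2 hq1 hqo
        (mem_centralizer_singleton_iff.1 (zpowers_le.2 c.2 hq))
    rw [hq1, mul_one] at hc
    obtain ⟨k, hk⟩ := hp2 ⟨(c : G), by rw [hc]; exact mem_zpowers p⟩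
    exact ⟨k, Subtype.ext (by simpa using congrArg Subtype.val hk)⟩
  have hmul : ∀ {z w : G}, Cen z → Cen w → z ≠ w → Cen (z * w) := fun {z w} hz hw hne =>
    ⟨orderOf_mul_two hz.1 hw.1 hne (hw.2.2 z hz.2.1), mul_mem hz.2.1 hw.2.1,
      fun s hs => (hz.2.2 s hs).mul_right (hw.2.2 s hs)⟩
  by_cases hcl : ∀ z g : G, Cen z → g * z * g⁻¹ ∈ (S : Subgroup G) → Cen (g * z * g⁻¹)
  · left
    let E : Subgroup G :=
      { carrier := {z | z = 1 ∨ Cen z}
        one_mem' := Or.inl rfl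
        mul_mem' := by
          rintro z w (rfl | hz) (rfl | hw)
          · simp
          · simp [hw]
          · simp [hz]
          · rcases eq_or_ne z w with rfl | hne
            · exact Or.inl (Basic.inv_sq_one hz.1)
            · exact Or.inr (hmul hz hw hne)
        inv_mem' := by
          rintro z (rfl | hz)
          · simp
          · exact Or.inr (by rw [Basic.inv_eq hz.1]; exact hz) }
    have H : Closed E (S : Subgroup G) a b :=
      { mem₁ := Or.inr ⟨ha, haS, hac⟩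
        mem₂ := Or.inr ⟨hb, hbS, hbc⟩
        ne₁ := Basic.ne_one ha
        ne₂ := Basic.ne_one hb
        ne := hab
        sq := by
          rintro z (rfl | hz)
          · simp
          · exact Basic.inv_sq_one hz.1
        cent := fun z hz hz1 => centS ((hz : z = 1 ∨ Cen z).resolve_left hz1)
        closed := fun z hz hz1 g hg => Or.inr (hcl z g ((hz : z = 1 ∨ Cen z).resolve_left hz1) hg) }
    exact H.main h hG
  · exfalso
    push Not at hcl
    obtain ⟨z, g, hz, huS, hnu⟩ := hcl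
    obtain ⟨u, hu'⟩ : ∃ u, u = g * z * g⁻¹ := ⟨_, rfl⟩
    rw [← hu'] at huS hnu
    have hu : orderOf u = 2 := by rw [hu', Basic.orderOf_conj, hz.1]
    obtain ⟨s₁, hs₁, hs₁u⟩ : ∃ s ∈ (S : Subgroup G), ¬ Commute s u := by
      by_contra hall
      push Not at hall
      exact hnu ⟨hu, huS, hall⟩
    -- an element of order four with central square
    obtain ⟨y, hyS, hy4, hy2⟩ : ∃ y ∈ (S : Subgroup G), (y * y) * (y * y) = 1 ∧ y * y ≠ 1 := by
      by_contra hno
      push Not at hno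
      have hexp : ∀ (j : ℕ) (e : G), e ∈ (S : Subgroup G) → e ^ 2 ^ j = 1 → e * e = 1 := by
        intro j
        induction j with
        | zero => intro e _ he; rw [pow_zero, pow_one] at he; rw [he, one_mul]
        | succ j ih =>
          intro e he hj
          refine hno e he (ih (e * e) (mul_mem he he) ?_)
          rw [← pow_two, ← pow_mul, ← pow_succ']; exact hj
      have hex : ∀ e ∈ (S : Subgroup G), e * e = 1 := fun e he => by
        obtain ⟨j, hj⟩ := S.2 ⟨e, he⟩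
        exact hexp j e he (by simpa using congrArg Subtype.val hj)
      apply hs₁u
      have := eq_inv_of_mul_eq_one_left (hex _ (mul_mem hs₁ huS))
      rwa [mul_inv_rev, inv_eq_of_mul_eq_one_left (hex s₁ hs₁), Basic.inv_eq hu] at this
    obtain ⟨y, hyS, hy4, hy2, hyc⟩ := h.exists_central_square S hyS hy4 hy2
    obtain ⟨q, hq⟩ : ∃ q, q = y * y := ⟨_, rfl⟩
    rw [← hq] at hy4 hy2 hyc
    have hq2 : orderOf q = 2 := Basic.orderOf_two_iff.2 ⟨hy4, hy2⟩
    have hC : centralizer ({u} : Set G) = (S : Subgroup G).map (MulAut.conj g).toMonoidHom := by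
      ext c
      rw [mem_centralizer_singleton_iff, mem_map]
      constructor
      · intro hc
        refine ⟨g⁻¹ * c * g, ?_, by simp [mul_assoc]⟩
        rw [← centS hz, mem_centralizer_singleton_iff]
        have := (show Commute c u from hc).map (MulAut.conj g⁻¹).toMonoidHom
        rw [hu'] at this
        simpa [mul_assoc] using this.eq
      · rintro ⟨s, hs, rfl⟩
        have := (hz.2.2 s hs).map (MulAut.conj g).toMonoidHom
        rw [hu']
        simpa [mul_assoc] using this.eq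
    -- conjugates of central involutions
    have hf : ∀ {e : G}, Cen e → g * e * g⁻¹ ∈ (S : Subgroup G) ∧ orderOf (g * e * g⁻¹) = 2 ∧
        (¬ ∀ s ∈ (S : Subgroup G), Commute s (g * e * g⁻¹)) ∧
        centralizer ({g * e * g⁻¹} : Set G) = centralizer ({u} : Set G) := by
      intro e he
      have hcf : centralizer ({g * e * g⁻¹} : Set G) = centralizer ({u} : Set G) := by
        rw [hC]
        ext c
        rw [mem_centralizer_singleton_iff, mem_map]
        constructor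
        · intro hc
          refine ⟨g⁻¹ * c * g, ?_, by simp [mul_assoc]⟩
          rw [← centS he, mem_centralizer_singleton_iff]
          have := (show Commute c (g * e * g⁻¹) from hc).map (MulAut.conj g⁻¹).toMonoidHom
          simpa [mul_assoc] using this.eq
        · rintro ⟨s, hs, rfl⟩
          have := (he.2.2 s hs).map (MulAut.conj g).toMonoidHom
          simpa [mul_assoc] using this.eq
      have haC : a ∈ centralizer ({g * e * g⁻¹} : Set G) := by
        rw [hcf, mem_centralizer_singleton_iff]; exact (hac u huS).symm.eq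
      have hmem : g * e * g⁻¹ ∈ (S : Subgroup G) := by
        rw [← centS ⟨ha, haS, hac⟩, mem_centralizer_singleton_iff]
        exact (mem_centralizer_singleton_iff.1 haC).symm
      have ho : orderOf (g * e * g⁻¹) = 2 := by rw [Basic.orderOf_conj, he.1]
      refine ⟨hmem, ho, fun hall => hs₁u ?_, hcf⟩
      have hs : s₁ ∈ centralizer ({u} : Set G) := by
        rw [← hcf, centS ⟨ho, hmem, hall⟩]; exact hs₁
      exact mem_centralizer_singleton_iff.1 hs
    obtain ⟨f₁S, f₁o, -, f₁c⟩ := hf (e := a) ⟨ha, haS, hac⟩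
    obtain ⟨f₂S, f₂o, -, f₂c⟩ := hf (e := b) ⟨hb, hbS, hbc⟩
    obtain ⟨f₃S, f₃o, -, f₃c⟩ := hf (e := a * b) (hmul ⟨ha, haS, hac⟩ ⟨hb, hbS, hbc⟩ hab)
    -- one of them commutes with `y`, hence all
    have hone : ∃ f, (f = g * a * g⁻¹ ∨ f = g * b * g⁻¹ ∨ f = g * (a * b) * g⁻¹) ∧ Commute f y := by
      rcases h.conj_four hq2 hq.symm (hyc _ f₁S) with e1 | e1
      · exact ⟨_, Or.inl rfl, mul_inv_eq_iff_eq_mul.1 e1⟩
      rcases h.conj_four hq2 hq.symm (hyc _ f₂S) with e2 | e2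
      · exact ⟨_, Or.inr (Or.inl rfl), mul_inv_eq_iff_eq_mul.1 e2⟩
      refine ⟨_, Or.inr (Or.inr rfl), mul_inv_eq_iff_eq_mul.1 ?_⟩
      rw [show g * (a * b) * g⁻¹ * y * (g * (a * b) * g⁻¹)⁻¹ =
        (g * a * g⁻¹) * ((g * b * g⁻¹) * y * (g * b * g⁻¹)⁻¹) * (g * a * g⁻¹)⁻¹ by group, e2,
        ← conj_inv, e1, inv_inv]
    obtain ⟨f, hfc, hfy⟩ := hone
    have hyu : y ∈ centralizer ({u} : Set G) := by
      rcases hfc with rfl | rfl | rfl
      · exact f₁c ▸ mem_centralizer_singleton_iff.2 hfy.symm.eq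
      · exact f₂c ▸ mem_centralizer_singleton_iff.2 hfy.symm.eq
      · exact f₃c ▸ mem_centralizer_singleton_iff.2 hfy.symm.eq
    have move : ∀ {e : G}, Cen e → s₁ * (g * e * g⁻¹) * s₁⁻¹ = q * (g * e * g⁻¹) := by
      intro e he
      obtain ⟨heS, heo, -, hec⟩ := hf he
      have hey : Commute (g * e * g⁻¹) y :=
        ((mem_centralizer_singleton_iff.1 (hec.symm ▸ hyu : y ∈ _) : _ = _)).symm
      refine (h.shift hq2 hq.symm heo hey (hyc s₁ hs₁)).resolve_left fun e' => hs₁u ?_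
      have h' : s₁ ∈ centralizer ({g * e * g⁻¹} : Set G) :=
        mem_centralizer_singleton_iff.2 (mul_inv_eq_iff_eq_mul.1 e')
      rw [hec] at h'
      exact mem_centralizer_singleton_iff.1 h'
    have h3 := move (hmul ⟨ha, haS, hac⟩ ⟨hb, hbS, hbc⟩ hab)
    rw [show s₁ * (g * (a * b) * g⁻¹) * s₁⁻¹ =
      (s₁ * (g * a * g⁻¹) * s₁⁻¹) * (s₁ * (g * b * g⁻¹) * s₁⁻¹) by group,
      move ⟨ha, haS, hac⟩, move ⟨hb, hbS, hbc⟩,
      show q * (g * (a * b) * g⁻¹) = q * ((g * a * g⁻¹) * (g * b * g⁻¹)) by group] at h3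
    have hcq : Commute (g * a * g⁻¹) q := hyc _ f₁S
    rw [mul_assoc q, ← mul_assoc (g * a * g⁻¹) q, hcq.eq, mul_assoc q (g * a * g⁻¹), ← mul_assoc q q,
      hy4, one_mul] at h3
    exact hy2 (mul_eq_right.1 h3.symm)

end Cfsg.Agent.NormEq
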