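import Cfsg.Agent.NormEq.Common
import Cfsg.Agent.Lib.PGroups.UniqueSubgroup
import Cfsg.Agent.Lib.Forms.DicksonShapes

/-!
# Sylow subgroups with one central involution are dihedral
-/

set_option autoImplicit false
set_option linter.style.haveILetI false
set_option linter.unusedSectionVars false

namespace Cfsg.Agent.NormEq

open Subgroup Cfsg.Agent.Involutions

variable {G : Type*} [Group G] [Finite G]

/-- The hypotheses: a unique central involution. -/
structure OneInv (S : Sylow 2 G) (t : G) : Prop where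
  ord : orderOf t = 2
  mem : t ∈ (S : Subgroup G)
  central : ∀ s ∈ (S : Subgroup G), Commute s t
  uniq : ∀ v ∈ (S : Subgroup G), orderOf v = 2 → (∀ s ∈ (S : Subgroup G), Commute s v) → v = t

namespace OneInv

variable {S : Sylow 2 G} {t : G} (H : OneInv S t)

include H

theorem exists_not_commute {u : G} (huS : u ∈ (S : Subgroup G)) (hu : orderOf u = 2) (hne : u ≠ t) :
    ∃ s ∈ (S : Subgroup G), ¬ Commute s u := by
  by_contra hall
  push Not at hall
  exact hne (H.uniq u huS hu hall)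

/-- The centralizer in `S` of an involution has index two, under the conditions of `no_four`. -/
theorem relIndex_two (h : Nrm G) {y u : G} (hy : y * y = t) (huS : u ∈ (S : Subgroup G))
    (hu : orderOf u = 2) (hne : u ≠ t) (huy : Commute u y) :
    ((S : Subgroup G) ⊓ centralizer ({u} : Set G)).relIndex (S : Subgroup G) = 2 := by
  obtain ⟨x₀, hx₀, hx₀u⟩ := H.exists_not_commute huS hu hne
  have hsh : ∀ s ∈ (S : Subgroup G), s * u * s⁻¹ = u ∨ s * u * s⁻¹ = t * u := fun s hs =>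
    h.shift H.ord hy hu huy (H.central s hs)
  refine Subgroup.index_eq_two_iff.2 ⟨⟨x₀, hx₀⟩, fun b => ?_⟩
  simp only [mem_subgroupOf, coe_mul, mem_inf, mem_centralizer_singleton_iff]
  have ex : x₀ * u * x₀⁻¹ = t * u :=
    (hsh x₀ hx₀).resolve_left fun e => hx₀u (mul_inv_eq_iff_eq_mul.1 e)
  have key : (b : G) * x₀ * u * ((b : G) * x₀)⁻¹ = t * ((b : G) * u * (b : G)⁻¹) := by
    rw [show (b : G) * x₀ * u * ((b : G) * x₀)⁻¹ = (b : G) * (x₀ * u * x₀⁻¹) * (b : G)⁻¹ by group, ex,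
      ← mul_assoc, (H.central b b.2).eq, mul_assoc t, mul_assoc]
  rcases hsh b b.2 with e | e
  · refine Or.inr ⟨⟨b.2, mul_inv_eq_iff_eq_mul.1 e⟩, fun ⟨_, k⟩ => ?_⟩
    rw [mul_inv_eq_iff_eq_mul.2 k, e] at key
    exact Basic.ne_one H.ord (mul_eq_right.1 key.symm)
  · refine Or.inl ⟨⟨mul_mem b.2 hx₀, mul_inv_eq_iff_eq_mul.1 ?_⟩, fun ⟨_, k⟩ => ?_⟩
    · rw [key, e, ← mul_assoc, Basic.inv_sq_one H.ord, one_mul]
    · rw [mul_inv_eq_iff_eq_mul.2 k] at e
      exact Basic.ne_one H.ord (mul_eq_right.1 e.symm)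

variable [IsSimpleGroup G]

theorem no_four (h : Nrm G) (hG : ¬ IsMulCommutative G) {y u : G} (hyS : y ∈ (S : Subgroup G))
    (hy : y * y = t) (huS : u ∈ (S : Subgroup G)) (hu : orderOf u = 2) (hne : u ≠ t)
    (hconj : IsConj t u) : ¬ Commute u y := by
  intro huy
  haveI : Fact (Nat.Prime 2) := ⟨Nat.prime_two⟩
  have ht := H.ord
  have htt : t * t = 1 := Basic.inv_sq_one ht
  have huu : u * u = 1 := Basic.inv_sq_one hu
  have htu : Commute t u := (H.central u huS).symm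
  have hDrel := H.relIndex_two h hy huS hu hne huy
  set D : Subgroup G := (S : Subgroup G) ⊓ centralizer ({u} : Set G) with hD
  have memD : ∀ d, d ∈ D ↔ d ∈ (S : Subgroup G) ∧ Commute d u := fun d => by
    rw [hD, mem_inf, mem_centralizer_singleton_iff]; rfl
  have hDS : D ≤ (S : Subgroup G) := inf_le_left
  have hyD : y ∈ D := (memD y).2 ⟨hyS, huy.symm⟩
  have hDnorm : ∀ s ∈ (S : Subgroup G), ∀ d ∈ D, s * d * s⁻¹ ∈ D := fun s hs d hd =>
    mem_subgroupOf.1 ((Subgroup.normal_of_index_eq_two (H := D.subgroupOf (S : Subgroup G)) hDrel).conj_mem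
      ⟨d, hDS hd⟩ (mem_subgroupOf.2 hd) ⟨s, hs⟩)
  -- a Sylow subgroup containing `D` with `u` central
  obtain ⟨g, hg⟩ := isConj_iff.1 hconj
  have hPle : ((g • S : Sylow 2 G) : Subgroup G) ≤ centralizer ({u} : Set G) := fun s hs => by
    have hs' := Cfsg.Agent.Transfer.Fusion.mem_smul_sylow_iff.1 hs
    have := (H.central _ hs').map (MulAut.conj g).toMonoidHom
    rw [mem_centralizer_singleton_iff, ← hg]
    simpa [mul_assoc] using this.eq
  obtain ⟨k, hk, hkD⟩ := Cfsg.Agent.Transfer.Fusion.exists_conj_le_of_isPGroup (g • S) hPle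
    (S.2.to_le hDS) inf_le_right
  obtain ⟨c, hc⟩ : ∃ c, c = k⁻¹ * g := ⟨_, rfl⟩
  have hct : c * t * c⁻¹ = u := by
    rw [hc, show k⁻¹ * g * t * (k⁻¹ * g)⁻¹ = k⁻¹ * (g * t * g⁻¹) * k by group, hg]
    rw [mem_centralizer_singleton_iff] at hk
    rw [mul_assoc, ← hk, inv_mul_cancel_left]
  have hcD : ∀ d ∈ D, c⁻¹ * d * c ∈ (S : Subgroup G) := fun d hd => by
    have := Cfsg.Agent.Transfer.Fusion.mem_smul_sylow_iff.1 (hkD (mem_map_of_mem _ hd))
    show c⁻¹ * d * c ∈ S
    simpa [hc, mul_assoc] using this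
  obtain ⟨E, hE⟩ : ∃ E : Subgroup G, E = D.map (MulAut.conj c⁻¹).toMonoidHom := ⟨_, rfl⟩
  have memE : ∀ e, e ∈ E ↔ c * e * c⁻¹ ∈ D := fun e => by
    rw [hE, mem_map]
    constructor
    · rintro ⟨d, hd, rfl⟩
      simpa [mul_assoc] using hd
    · intro he
      exact ⟨_, he, by simp [mul_assoc]⟩
  have hES : E ≤ (S : Subgroup G) := fun e he => by
    have := hcD _ ((memE e).1 he)
    simpa [mul_assoc] using this
  have hErel : (E.subgroupOf (S : Subgroup G)).index = 2 := by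
    have h1 := (D.subgroupOf (S : Subgroup G)).card_mul_index
    have h2 := (E.subgroupOf (S : Subgroup G)).card_mul_index
    rw [Nat.card_congr (subgroupOfEquivOfLe hDS).toEquiv,
      show (D.subgroupOf (S : Subgroup G)).index = 2 from hDrel] at h1
    have hEc : Nat.card E = Nat.card D := by
      rw [hE, card_map_of_injective (MulAut.conj c⁻¹).injective]
    rw [Nat.card_congr (subgroupOfEquivOfLe hES).toEquiv, hEc, ← h1] at h2
    exact Nat.eq_of_mul_eq_mul_left Nat.card_pos h2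
  -- an element outside moving `t`
  have htD : t ∈ D := (memD t).2 ⟨H.mem, htu⟩
  have hct' : c⁻¹ * t * c ∈ (S : Subgroup G) := hcD t htD
  obtain ⟨s, hsS, hsne⟩ := H.exists_not_commute hct'
    (by rw [show c⁻¹ * t * c = c⁻¹ * t * c⁻¹⁻¹ by group, Basic.orderOf_conj, ht]) (fun e => by
      apply hne
      rw [← hct]
      nth_rw 1 [← e]
      group)
  obtain ⟨x', hx'⟩ : ∃ x', x' = c * s * c⁻¹ := ⟨_, rfl⟩
  have hx't : ¬ Commute x' t := fun hk => hsne (by
    have := hk.map (MulAut.conj c⁻¹).toMonoidHom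
    simpa [hx', mul_assoc] using this)
  have hx'D : ∀ d ∈ D, x' * d * x'⁻¹ ∈ D := fun d hd => by
    have he : c⁻¹ * d * c ∈ E := (memE _).2 (by simpa [mul_assoc] using hd)
    have := (memE _).1 (mem_subgroupOf.1 ((Subgroup.normal_of_index_eq_two hErel).conj_mem
      ⟨_, hES he⟩ (mem_subgroupOf.2 he) ⟨s, hsS⟩))
    simpa [hx', mul_assoc] using this
  have hx'sq : x' * x' ∈ D := by
    have := (memE _).1 (mem_subgroupOf.1 (Subgroup.mul_self_mem_of_index_two hErel ⟨s, hsS⟩))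
    simpa [hx', mul_assoc] using this
  have hx'u : Commute x' u := by
    have := (H.central s hsS).map (MulAut.conj c).toMonoidHom
    rw [← hct, hx']
    simpa [mul_assoc] using this
  have hEC : ∀ d ∈ D, Commute d t := fun d hd => H.central d (hDS hd)
  obtain ⟨t', ht'⟩ : ∃ t', t' = x' * t * x'⁻¹ := ⟨_, rfl⟩
  have ht'D : t' ∈ D := ht' ▸ hx'D t htD
  have ht'2 : orderOf t' = 2 := by rw [ht', Basic.orderOf_conj, ht]
  have hx'tu : x' * t * x'⁻¹ = t * u := by
    rw [← ht']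
    have htt' : Commute t t' := (hEC t' ht'D).symm
    have hne' : t' ≠ t := fun e => hx't (mul_inv_eq_iff_eq_mul.1 (ht' ▸ e))
    have hx'fix : x' * t' * x'⁻¹ = t := by
      rw [ht', show x' * (x' * t * x'⁻¹) * x'⁻¹ = (x' * x') * t * (x' * x')⁻¹ by group,
        mul_inv_eq_iff_eq_mul.2 (hEC _ hx'sq).eq]
    have hp2 : orderOf (t * t') = 2 := Basic.orderOf_two_iff.2 ⟨by
      rw [mul_assoc, ← mul_assoc t' t t', ← htt'.eq, mul_assoc t t' t', Basic.inv_sq_one ht'2, mul_one,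
        htt], fun e => hne' (by rw [← inv_eq_of_mul_eq_one_right e, Basic.inv_eq ht])⟩
    have hcen : ∀ r ∈ (S : Subgroup G), Commute r (c⁻¹ * (t * t') * c) := by
      have inD : ∀ d ∈ D, Commute d (t * t') := fun d hd => by
        refine (hEC d hd).mul_right ?_
        have h1 : x'⁻¹ * d * x' ∈ D := by
          have := mul_mem (mul_mem (inv_mem hx'sq) (hx'D d hd)) hx'sq
          rwa [show (x' * x')⁻¹ * (x' * d * x'⁻¹) * (x' * x') = x'⁻¹ * d * x' by group] at this
        have := (hEC _ h1).map (MulAut.conj x').toMonoidHom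
        rw [ht']
        simpa [mul_assoc] using this
      have hxc : Commute x' (t * t') := by
        refine mul_inv_eq_iff_eq_mul.1 ?_
        rw [show x' * (t * t') * x'⁻¹ = (x' * t * x'⁻¹) * (x' * t' * x'⁻¹) by group, ← ht', hx'fix,
          htt'.eq]
      intro r hr
      have inS : Commute (c * r * c⁻¹) (t * t') := by
        by_cases hrE : r ∈ E
        · exact inD _ ((memE r).1 hrE)
        · have hsE : s ∉ E := fun hs => hx't (hEC _ (hx' ▸ (memE s).1 hs))
          have h2 : c * (s⁻¹ * r) * c⁻¹ ∈ D := (memE _).1 (by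
            have := (Subgroup.mul_mem_iff_of_index_two hErel (a := ⟨s, hsS⟩⁻¹) (b := ⟨r, hr⟩)).2
              (iff_of_false (by simpa [mem_subgroupOf] using hsE) (by simpa [mem_subgroupOf] using hrE))
            simpa [mem_subgroupOf] using this)
          have := hxc.mul_left (inD _ h2)
          simpa [hx', mul_assoc] using this
      have := inS.map (MulAut.conj c⁻¹).toMonoidHom
      simpa [mul_assoc] using this
    have h3 : c⁻¹ * (t * t') * c = t := H.uniq _ (hcD _ (mul_mem htD ht'D))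
      (by rw [show c⁻¹ * (t * t') * c = c⁻¹ * (t * t') * c⁻¹⁻¹ by group, Basic.orderOf_conj, hp2]) hcen
    have h4 : t * t' = u := by
      rw [← hct]
      conv_rhs => rw [← h3]
      group
    rw [← h4, ← mul_assoc, htt, one_mul]
  have hx'tu' : x' * (t * u) * x'⁻¹ = t := by
    rw [show x' * (t * u) * x'⁻¹ = (x' * t * x'⁻¹) * (x' * u * x'⁻¹) by group, hx'tu,
      mul_inv_eq_iff_eq_mul.2 hx'u.eq, mul_assoc, huu, mul_one]
  have htu2 : orderOf (t * u) = 2 := by rw [← hx'tu, Basic.orderOf_conj, ht]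
  have hDtu : ∀ d ∈ D, Commute d (t * u) := fun d hd => (hEC d hd).mul_right ((memD d).1 hd).2
  have moveu : ∀ r ∈ (S : Subgroup G), r ∉ D → r * u * r⁻¹ = t * u := fun r hr hrD =>
    (h.shift ht hy hu huy (H.central r hr)).resolve_left fun e =>
      hrD ((memD r).2 ⟨hr, mul_inv_eq_iff_eq_mul.1 e⟩)
  have movetu : ∀ r ∈ (S : Subgroup G), r ∉ D → r * (t * u) * r⁻¹ = u := fun r hr hrD => by
    rw [show r * (t * u) * r⁻¹ = (r * t * r⁻¹) * (r * u * r⁻¹) by group,
      mul_inv_eq_iff_eq_mul.2 (H.central r hr).eq, moveu r hr hrD, ← mul_assoc, htt, one_mul]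
  have zc : ∀ {w v a : G}, v ∈ zpowers w → a * v * a⁻¹ ∈ zpowers (a * w * a⁻¹) := fun hv => by
    obtain ⟨n, rfl⟩ := mem_zpowers_iff.1 hv
    exact ⟨n, conj_zpow⟩
  obtain ⟨x₀, hx₀, hx₀u⟩ := H.exists_not_commute huS hu hne
  have hx₀D : x₀ ∉ D := fun hk => hx₀u ((memD _).1 hk).2
  -- an element of greatest order in `D` with involution `t`
  obtain ⟨y₀, ⟨hy₀D, hty₀⟩, hmax⟩ := Set.exists_max_image {d | d ∈ D ∧ t ∈ zpowers d} orderOf
    (Set.toFinite _) ⟨y, hyD, hy ▸ mul_mem (mem_zpowers y) (mem_zpowers y)⟩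
  obtain ⟨N, hN⟩ : ∃ N, orderOf y₀ = N := ⟨_, rfl⟩
  have hy4 : 4 ≤ orderOf y := by
    have h4 : orderOf y = 2 ^ 2 := orderOf_eq_prime_pow (by
      rw [pow_one, pow_two, hy]; exact Basic.ne_one ht) (by
      rw [show (2 : ℕ) ^ (1 + 1) = 2 * 2 from rfl, pow_mul, pow_two y, hy, pow_two, htt])
    omega
  have hN4 : 4 ≤ N := hy4.trans (hN ▸ hmax y ⟨hyD, hy ▸ mul_mem (mem_zpowers y) (mem_zpowers y)⟩)
  obtain ⟨z, hz⟩ : ∃ z, z = x₀ * (x' * y₀ * x'⁻¹) * x₀⁻¹ := ⟨_, rfl⟩
  have hzD : z ∈ D := hz ▸ hDnorm x₀ hx₀ _ (hx'D _ hy₀D)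
  have hzu : u ∈ zpowers z := by
    rw [hz, ← movetu x₀ hx₀ hx₀D, ← hx'tu]
    exact zc (zc hty₀)
  have hzo : orderOf z = N := by rw [hz, Basic.orderOf_conj, Basic.orderOf_conj, hN]
  have hz2 : IsPGroup 2 (zpowers z) := isPGroup_zpowers S.2 (hDS hzD)
  obtain ⟨e, he⟩ := IsPGroup.iff_card.1 hz2
  rw [Nat.card_zpowers, hzo] at he
  obtain ⟨e', rfl⟩ : ∃ e', e = e' + 2 := ⟨e - 2, by
    have : 2 ≤ e := by
      by_contra hlt
      interval_cases e <;> omega
    omega⟩
  obtain ⟨M, hM⟩ : ∃ M, M = 2 ^ (e' + 1) := ⟨_, rfl⟩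
  have hNM : N = 2 * M := by rw [he, hM, pow_succ']
  have powinv : ∀ {w v : G}, orderOf v = 2 → v ∈ zpowers w → orderOf w = N → w ^ M = v := by
    intro w v hv hvw hwo
    refine inv_unique hv ?_ hvw (pow_mem (mem_zpowers w) _)
    rw [show M = orderOf w / 2 by omega]
    exact orderOf_pow_orderOf_div (orderOf_pos w).ne' ⟨M, by omega⟩
  -- an element of least order outside `D`
  obtain ⟨x, ⟨hxS, hxD⟩, hxmin⟩ := Set.exists_min_image {a | a ∈ (S : Subgroup G) ∧ a ∉ D} orderOf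
    (Set.toFinite _) ⟨x₀, hx₀, hx₀D⟩
  obtain ⟨z'', hz''⟩ : ∃ z'', z'' = x * z * x⁻¹ := ⟨_, rfl⟩
  have hz''D : z'' ∈ D := hz'' ▸ hDnorm x hxS z hzD
  have hz''tu : t * u ∈ zpowers z'' := by rw [hz'', ← moveu x hxS hxD]; exact zc hzu
  have hz''o : orderOf z'' = N := by rw [hz'', Basic.orderOf_conj, hzo]
  have hne2 : u ≠ t * u := fun e => Basic.ne_one ht (mul_eq_right.1 e.symm)
  have hzz : Commute z'' z :=
    (h.commute_of_ne hz2 hu hzu htu2 hz''tu hne2 (hDtu z hzD) ((memD _).1 hz''D).2).symm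
  obtain ⟨n, hn⟩ : ∃ n, n = z'' * z⁻¹ := ⟨_, rfl⟩
  have hnM : n ^ M = t := by
    rw [hn, hzz.inv_right.mul_pow, inv_pow, powinv htu2 hz''tu hz''o, powinv hu hzu hzo,
      Basic.inv_eq hu, mul_assoc, huu, mul_one]
  have hno : orderOf n = N := by
    rw [he]
    refine orderOf_eq_prime_pow (by rw [← hM, hnM]; exact Basic.ne_one ht) ?_
    rw [pow_succ 2 (e' + 1), pow_mul, ← hM, hnM, pow_two, htt]
  rcases Nat.lt_or_ge (orderOf x) 4 with hlt | hge
  · -- an involution outside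
    have hx2 : orderOf x = 2 := by
      obtain ⟨j, hj⟩ := IsPGroup.iff_card.1 (isPGroup_zpowers S.2 hxS)
      rw [Nat.card_zpowers] at hj
      rcases j with _ | _ | j
      · exact absurd (orderOf_eq_one_iff.1 (by simpa using hj)) fun e => hxD (by rw [e]; exact one_mem D)
      · simpa using hj
      · exfalso
        rw [hj, pow_add] at hlt
        have := Nat.one_le_two_pow (n := j)
        omega
    have hxx : x * x = 1 := Basic.inv_sq_one hx2
    obtain ⟨p, hp⟩ : ∃ p, p = z'' * z := ⟨_, rfl⟩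
    have hxz2 : (x * z) * (x * z) = p := by
      rw [hp, hz'', Basic.inv_eq hx2]; group
    have hpM : p ^ M = t := by
      rw [hp, hzz.mul_pow, powinv htu2 hz''tu hz''o, powinv hu hzu hzo, mul_assoc, huu, mul_one]
    have htxz : t ∈ zpowers (x * z) := by
      rw [← hpM, ← hxz2]; exact pow_mem (mul_mem (mem_zpowers _) (mem_zpowers _)) _
    have h1 : z * (x * z) * z⁻¹ ∈ zpowers (x * z) :=
      h.conj_mem ht htxz (H.central z (hDS hzD))
    have h2 : n⁻¹ ∈ zpowers (x * z) := by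
      have := mul_mem h1 (inv_mem (mem_zpowers (x * z)))
      rw [show z * (x * z) * z⁻¹ * (x * z)⁻¹ = z * (x * z⁻¹ * x⁻¹) by group] at this
      rwa [hn, mul_inv_rev, inv_inv, hz'', show (x * z * x⁻¹)⁻¹ = x * z⁻¹ * x⁻¹ by group]
    obtain ⟨i, hi⟩ := mem_zpowers_iff.1 (inv_mem_iff.1 h2)
    obtain ⟨j, rfl | rfl⟩ := Int.even_or_odd' i
    · rw [zpow_mul, zpow_two, hxz2, hn, hp, hzz.mul_zpow] at hi
      have e1 : z'' ^ (j - 1) = z ^ (-(1 + j)) := by
        rw [← eq_mul_inv_iff_mul_eq] at hi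
        have hcm : Commute z'' (z⁻¹ * (z ^ j)⁻¹) := hzz.inv_right.mul_right (hzz.zpow_right j).inv_right
        rw [zpow_sub_one, hi, mul_assoc z'', hcm.eq, mul_inv_cancel_right]
        group
      have e2 : z'' ^ (j - 1) = 1 := zpowers_inf_eq_one (isPGroup_zpowers S.2 (hDS hz''D)) htu2 hz''tu
        hu hzu hne2.symm ⟨_, rfl⟩ ⟨_, e1.symm⟩
      rw [e2] at e1
      have d1 := orderOf_dvd_iff_zpow_eq_one.2 e2
      have d2 := orderOf_dvd_iff_zpow_eq_one.2 e1.symm
      rw [hz''o] at d1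
      rw [hzo] at d2
      have d3 : (N : ℤ) ∣ 2 := by
        have h5 : (2 : ℤ) = -((j - 1) + -(1 + j)) := by ring
        rw [h5]
        exact dvd_neg.2 (dvd_add d1 d2)
      have := Int.le_of_dvd (by norm_num) d3
      omega
    · apply hxD
      rw [zpow_add, zpow_mul, zpow_two, hxz2, zpow_one] at hi
      have hpD : p ∈ D := hp ▸ mul_mem hz''D hzD
      have hxzD : x * z ∈ D := by
        have := mul_mem (zpow_mem (inv_mem hpD) j) (hn ▸ mul_mem hz''D (inv_mem hzD) : n ∈ D)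
        rwa [← hi, ← mul_assoc, inv_zpow, inv_mul_cancel, one_mul] at this
      simpa using mul_mem hxzD (inv_mem hzD)
  · -- an element of order at least four outside
    obtain ⟨i, hi, hix⟩ := exists_inv (isPGroup_zpowers S.2 hxS) (fun e => by simp [e] at hge)
    have hxsq : x * x ∈ D :=
      mem_subgroupOf.1 (Subgroup.mul_self_mem_of_index_two (H := D.subgroupOf (S : Subgroup G)) hDrel ⟨x, hxS⟩)
    have hev : Even (orderOf x) := even_of_mem hi hix
    have inSq : ∀ {a v : G}, 4 ≤ orderOf a → orderOf v = 2 → v ∈ zpowers a → IsPGroup 2 (zpowers a) →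
        v ∈ zpowers (a * a) := by
      intro a v ha hv hva ha2
      obtain ⟨j, hj⟩ := IsPGroup.iff_card.1 ha2
      rw [Nat.card_zpowers] at hj
      rcases j with _ | _ | j <;> [simp [hj] at ha; simp [hj] at ha; skip]
      have h2 : orderOf (a ^ (2 ^ (j + 1))) = 2 := by
        have := orderOf_pow_orderOf_div (orderOf_pos a).ne' (n := 2) (hj ▸ dvd_pow_self 2 (by omega))
        rwa [hj, pow_succ 2 (j + 1), Nat.mul_div_cancel _ two_pos] at this
      rw [inv_unique h2 hv (pow_mem (mem_zpowers a) _) hva, pow_succ' 2 j, pow_mul, pow_two]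
      exact pow_mem (mem_zpowers _) _
    have hiD : i ∈ D := zpowers_le.2 hxsq (inSq hge hi hix (isPGroup_zpowers S.2 hxS))
    have hit : i = t := by
      have h1 := h.conj_mem hi hix (((memD i).1 hiD).2.symm)
      have h2 := mul_mem h1 (inv_mem (mem_zpowers x))
      rw [show u * x * u⁻¹ * x⁻¹ = u * (x * u⁻¹ * x⁻¹) by group, Basic.inv_eq hu, moveu x hxS hxD,
        ← mul_assoc, ← htu.eq, mul_assoc, huu, mul_one] at h2
      exact (inv_unique ht hi h2 hix)
    rw [hit] at hix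
    -- its order is at most `N`
    obtain ⟨a, haD⟩ := exists_conj_mem_of_min hG S D hDrel hxS hxD fun b hb hbD => hxmin b ⟨hb, hbD⟩
    obtain ⟨f, hf⟩ : ∃ f, f = a * x * a⁻¹ := ⟨_, rfl⟩
    rw [← hf] at haD
    have hfo : orderOf f = orderOf x := by rw [hf, Basic.orderOf_conj]
    obtain ⟨w, hw⟩ : ∃ w, w = a * t * a⁻¹ := ⟨_, rfl⟩
    have hw2 : orderOf w = 2 := by rw [hw, Basic.orderOf_conj, ht]
    have hwf : w ∈ zpowers f := hw ▸ hf ▸ zc hix
    have hwD : w ∈ D := zpowers_le.2 haD hwf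
    have hwsq : w ∈ zpowers (f * f) := inSq (hfo ▸ hge) hw2 hwf (isPGroup_zpowers S.2 (hDS haD))
    obtain ⟨y₂, hy₂⟩ : ∃ y₂, y₂ = x₀ * (x' * y * x'⁻¹) * x₀⁻¹ := ⟨_, rfl⟩
    have hy₂D : y₂ ∈ D := hy₂ ▸ hDnorm x₀ hx₀ _ (hx'D _ hyD)
    have hy₂sq : y₂ * y₂ = u := by
      rw [hy₂, ← movetu x₀ hx₀ hx₀D, ← hx'tu, ← hy]; group
    have centsq : ∀ {b v : G}, orderOf v = 2 → b * b = v → Commute f v → Commute w b := by
      intro b v hv hb hfv
      have h1 : (f * f) * b * (f * f)⁻¹ = b := by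
        rw [show f * f * b * (f * f)⁻¹ = f * (f * b * f⁻¹) * f⁻¹ by group]
        rcases h.conj_four hv hb hfv with e | e <;> rw [e]
        · exact e
        · rw [← conj_inv, e, inv_inv]
      obtain ⟨m, rfl⟩ := mem_zpowers_iff.1 hwsq
      exact Commute.zpow_left (mul_inv_eq_iff_eq_mul.1 h1) m
    have hwy : Commute w y := centsq ht hy (hEC f haD)
    have hwy2 : Commute w y₂ := centsq hu hy₂sq ((memD f).1 haD).2
    have hwD' : ∀ d ∈ D, Commute d w := fun d hd => by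
      refine mul_inv_eq_iff_eq_mul.1 ?_
      rcases h.shift ht hy hw2 hwy (hEC d hd) with e | e
      · exact e
      rcases h.shift hu hy₂sq hw2 hwy2 ((memD d).1 hd).2 with e' | e'
      · exact e'
      · exact absurd (mul_right_cancel (e.symm.trans e')) hne.symm
    have hV : w = t ∨ w = u ∨ w = t * u := by
      have hgen : ∀ {v : G}, v ∈ D → (∀ d ∈ D, Commute d v) → x₀ * v * x₀⁻¹ = v →
          orderOf v = 2 → v = t := by
        intro v hvD hv hx₀v hv2
        refine H.uniq v (hDS hvD) hv2 fun r hr => ?_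
        by_cases hrD : r ∈ D
        · exact hv r hrD
        · have h2 : x₀⁻¹ * r ∈ D := by
            have := (Subgroup.mul_mem_iff_of_index_two hDrel (a := (⟨x₀, hx₀⟩ : (S : Subgroup G))⁻¹)
              (b := ⟨r, hr⟩)).2 (iff_of_false (by simpa [mem_subgroupOf] using hx₀D)
                (by simpa [mem_subgroupOf] using hrD))
            simpa [mem_subgroupOf] using this
          have := (show Commute x₀ v from mul_inv_eq_iff_eq_mul.1 hx₀v).mul_left (hv _ h2)
          rwa [mul_inv_cancel_left] at this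
      rcases h.shift ht hy hw2 hwy (H.central x₀ hx₀) with e | e
      · exact Or.inl (hgen hwD hwD' e hw2)
      · right
        by_cases hwu : w = u
        · exact Or.inl hwu
        right
        have hwu' : Commute w u := ((memD w).1 hwD).2
        have ho : orderOf (w * u) = 2 := Basic.orderOf_two_iff.2 ⟨by
          rw [mul_assoc, ← mul_assoc u w u, ← hwu'.eq, mul_assoc w u u, huu, mul_one,
            Basic.inv_sq_one hw2], fun k => hwu (by
          rw [eq_inv_of_mul_eq_one_left k, Basic.inv_eq hu])⟩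
        have := hgen (mul_mem hwD ((memD u).2 ⟨huS, Commute.refl u⟩))
          (fun d hd => (hwD' d hd).mul_right ((memD d).1 hd).2) (by
            rw [show x₀ * (w * u) * x₀⁻¹ = (x₀ * w * x₀⁻¹) * (x₀ * u * x₀⁻¹) by group, e,
              moveu x₀ hx₀ hx₀D, ← mul_assoc, mul_assoc t w t, (hEC w hwD).eq, ← mul_assoc t t w, htt,
              one_mul]) ho
        rw [← this, mul_assoc, huu, mul_one]
    have hxN : orderOf x ≤ N := by
      rw [← hfo, ← hN]
      rcases hV with e | e | e <;> rw [e] at hwf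
      · exact hmax f ⟨haD, hwf⟩
      · have := hmax _ ⟨hx'D _ (hDnorm x₀ hx₀ f haD),
          (by rw [← hx'tu', ← moveu x₀ hx₀ hx₀D]; exact zc (zc hwf))⟩
        rwa [Basic.orderOf_conj, Basic.orderOf_conj] at this
      · have := hmax _ ⟨hx'D f haD, (by rw [← hx'tu']; exact zc hwf)⟩
        rwa [Basic.orderOf_conj] at this
    have h1 : z * x * z⁻¹ ∈ zpowers x := h.conj_mem ht hix (H.central z (hDS hzD))
    have h2 : n ∈ zpowers x := by
      rw [← inv_mem_iff, hn, mul_inv_rev, inv_inv, hz'']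
      have := mul_mem h1 (inv_mem (mem_zpowers x))
      rwa [show z * x * z⁻¹ * x⁻¹ = z * (x * z * x⁻¹)⁻¹ by group] at this
    obtain ⟨m, hm⟩ := mem_zpowers_iff.1 h2
    obtain ⟨m', rfl | rfl⟩ := Int.even_or_odd' m
    · have hd : orderOf n ∣ orderOf (x * x) :=
        orderOf_dvd_of_mem_zpowers ⟨m', by rw [← hm, zpow_mul, zpow_two]⟩
      rw [hno] at hd
      have hx2o : orderOf (x * x) = orderOf x / 2 := by
        rw [← pow_two, orderOf_pow, Nat.gcd_eq_right hev.two_dvd]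
      have := Nat.le_of_dvd (by omega) (hx2o ▸ hd)
      omega
    · apply hxD
      rw [zpow_add, zpow_mul, zpow_two, zpow_one] at hm
      have hnD : n ∈ D := hn ▸ mul_mem hz''D (inv_mem hzD)
      have := mul_mem (zpow_mem (inv_mem hxsq) m') hnD
      rwa [← hm, ← mul_assoc, inv_zpow, inv_mul_cancel, one_mul] at this

theorem inverted (h : Nrm G) (hG : ¬ IsMulCommutative G) {u : G} (huS : u ∈ (S : Subgroup G))
    (hu : orderOf u = 2) (hne : u ≠ t) (hconj : IsConj t u) {y : G} (hy : y ∈ (S : Subgroup G))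
    (hy2 : y * y = t) : u * y * u⁻¹ = y⁻¹ :=
  (h.conj_four H.ord hy2 (H.central u huS)).resolve_left fun e =>
    H.no_four h hG hy hy2 huS hu hne hconj (mul_inv_eq_iff_eq_mul.1 e)

theorem four_unique (h : Nrm G) (hG : ¬ IsMulCommutative G) {u : G} (huS : u ∈ (S : Subgroup G))
    (hu : orderOf u = 2) (hne : u ≠ t) (hconj : IsConj t u) {y₁ y₂ : G} (h1 : y₁ ∈ (S : Subgroup G))
    (h2 : y₂ ∈ (S : Subgroup G)) (q1 : y₁ * y₁ = t) (q2 : y₂ * y₂ = t) : y₂ = y₁ ∨ y₂ = y₁⁻¹ := by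
  have ht := H.ord
  have htt : t * t = 1 := Basic.inv_sq_one ht
  have inv := fun {y : G} => H.inverted h hG huS hu hne hconj (y := y)
  have comm : ∀ {a b : G}, a ∈ (S : Subgroup G) → b ∈ (S : Subgroup G) → a * a = t → b * b = t →
      Commute a b := by
    intro a b ha hb qa qb
    rcases h.conj_four ht qa (H.central b hb) with e | e
    · exact (mul_inv_eq_iff_eq_mul.1 e).symm
    · have hq : (a * b) * (a * b) = t := by
        rw [show a * b * (a * b) = a * (b * a * b⁻¹) * (b * b) by group, e, qb, mul_inv_cancel, one_mul]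
      have := inv (mul_mem ha hb) hq
      rw [show u * (a * b) * u⁻¹ = (u * a * u⁻¹) * (u * b * u⁻¹) by group, inv ha qa, inv hb qb,
        ← mul_inv_rev] at this
      exact (inv_injective this).symm
  by_contra hcon
  push Not at hcon
  obtain ⟨i, hi⟩ : ∃ i, i = y₁ * y₂ := ⟨_, rfl⟩
  have c12 := comm h1 h2 q1 q2
  have hii : i * i = 1 := by
    rw [hi, mul_assoc, ← mul_assoc y₂ y₁ y₂, ← c12.eq, mul_assoc y₁ y₂ y₂, q2, ← mul_assoc, q1, htt]
  have hi2 : orderOf i = 2 := Basic.orderOf_two_iff.2 ⟨hii, fun e => hcon.2 (by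
    rw [hi] at e; exact (inv_eq_of_mul_eq_one_right e).symm)⟩
  have hit : i ≠ t := fun e => hcon.1 (mul_left_cancel ((hi ▸ e : y₁ * y₂ = t).trans q1.symm))
  have hiS : i ∈ (S : Subgroup G) := hi ▸ mul_mem h1 h2
  have hiy : Commute i y₁ := hi ▸ ((Commute.refl y₁).mul_left c12.symm)
  obtain ⟨x, hx, hxi⟩ := H.exists_not_commute hiS hi2 hit
  have exi : x * i * x⁻¹ = t * i :=
    (h.shift ht q1 hi2 hiy (H.central x hx)).resolve_left fun e => hxi (mul_inv_eq_iff_eq_mul.1 e)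
  -- an element centralizing one and inverting the other
  obtain ⟨e, heS, e1, e2⟩ : ∃ e ∈ (S : Subgroup G), e * y₁ * e⁻¹ = y₁ ∧ e * y₂ * e⁻¹ = y₂⁻¹ := by
    have e3 : (x * y₁ * x⁻¹) * (x * y₂ * x⁻¹) = t * i := by rw [← exi, hi]; group
    rcases h.conj_four ht q1 (H.central x hx) with a1 | a1 <;>
      rcases h.conj_four ht q2 (H.central x hx) with a2 | a2
    · exfalso; rw [a1, a2, ← hi] at e3; exact Basic.ne_one ht (mul_eq_right.1 e3.symm)
    · exact ⟨x, hx, a1, a2⟩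
    · refine ⟨u * x, mul_mem huS hx, ?_, ?_⟩
      · rw [show u * x * y₁ * (u * x)⁻¹ = u * (x * y₁ * x⁻¹) * u⁻¹ by group, a1, ← conj_inv,
          inv h1 q1, inv_inv]
      · rw [show u * x * y₂ * (u * x)⁻¹ = u * (x * y₂ * x⁻¹) * u⁻¹ by group, a2, inv h2 q2]
    · exfalso
      rw [a1, a2, ← mul_inv_rev, ← c12.eq, ← hi, inv_eq_of_mul_eq_one_right hii] at e3
      exact Basic.ne_one ht (mul_eq_right.1 e3.symm)
  -- such an element has order at least eight
  have big : ∀ {e a b : G}, e ∈ (S : Subgroup G) → a ∈ (S : Subgroup G) → b ∈ (S : Subgroup G) →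
      a * a = t → b * b = t → e * a * e⁻¹ = a → e * b * e⁻¹ = b⁻¹ →
      ∃ q, q ∈ (S : Subgroup G) ∧ q * q = t ∧ q ∈ zpowers (e * e) ∧ Commute e q := by
    intro e a b heS ha hb qa qb ea eb
    have hbne : b⁻¹ ≠ b := fun k => Basic.ne_one ht (by rw [← qb]; nth_rw 1 [← k]; exact inv_mul_cancel b)
    have notc : ¬ Commute e b := fun k => hbne (eb.symm.trans (mul_inv_eq_iff_eq_mul.2 k.eq))
    obtain ⟨k, hk⟩ := IsPGroup.iff_card.1 (isPGroup_zpowers S.2 heS)
    rw [Nat.card_zpowers] at hk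
    have hee : ¬ e * e = 1 := fun k2 => by
      have hea : (e * a) * (e * a) = t := by
        rw [show e * a * (e * a) = (e * a * e⁻¹) * (e * e) * a by group, ea, k2, mul_one, qa]
      exact notc (by simpa using ((comm (mul_mem heS ha) hb hea qb).mul_left (comm ha hb qa qb).inv_left))
    have h4 : ¬ e * e = t := fun k2 => notc (comm heS hb k2 qb)
    rcases k with _ | _ | k
    · exfalso
      rw [pow_zero, orderOf_eq_one_iff] at hk
      exact hee (by rw [hk, mul_one])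
    · exfalso
      have := pow_orderOf_eq_one e
      rw [hk, zero_add, pow_one, pow_two] at this
      exact hee this
    obtain ⟨r, hr, hre⟩ := exists_inv (isPGroup_zpowers S.2 heS) (fun k2 => hee (by rw [k2, mul_one]))
    have h2e : orderOf (e ^ (2 ^ (k + 1))) = 2 := by
      have := orderOf_pow_orderOf_div (orderOf_pos e).ne' (n := 2) (hk ▸ dvd_pow_self 2 (by omega))
      rwa [hk, pow_succ 2 (k + 1), Nat.mul_div_cancel _ two_pos] at this
    have hre' : r = e ^ (2 ^ (k + 1)) := inv_unique h2e hr (pow_mem (mem_zpowers e) _) hre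
    have hrb : Commute r b := by
      rw [hre', pow_succ' 2 k, pow_mul, pow_two]
      refine Commute.pow_left (mul_inv_eq_iff_eq_mul.1 ?_) _
      rw [show e * e * b * (e * e)⁻¹ = e * (e * b * e⁻¹) * e⁻¹ by group, eb, ← conj_inv, eb, inv_inv]
    have h5 := mul_mem (mem_zpowers e) (inv_mem (h.conj_mem hr hre hrb.symm))
    rw [show e * (b * e * b⁻¹)⁻¹ = (e * b * e⁻¹) * b⁻¹ by group, eb, ← mul_inv_rev, qb,
      Basic.inv_eq ht] at h5
    have hrt : r = t := inv_unique ht hr h5 hre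
    rcases k with _ | k
    · exfalso; exact h4 (by rw [← hrt, hre', pow_one, pow_two])
    refine ⟨e ^ (2 ^ (k + 1)), pow_mem heS _, ?_, ?_, (Commute.refl e).pow_right _⟩
    · rw [← pow_add, ← two_mul, ← pow_succ', ← hre', hrt]
    · rw [pow_succ' 2 k, pow_mul, pow_two]; exact pow_mem (mem_zpowers _) _
  obtain ⟨q, hqS, qq, hqe, -⟩ := big heS h1 h2 q1 q2 e1 e2
  obtain ⟨q', hq'S, qq', hq'e, hq'c⟩ := big (mul_mem huS heS) h2 h1 q2 q1
    (by rw [show u * e * y₂ * (u * e)⁻¹ = u * (e * y₂ * e⁻¹) * u⁻¹ by group, e2, ← conj_inv,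
      inv h2 q2, inv_inv])
    (by rw [show u * e * y₁ * (u * e)⁻¹ = u * (e * y₁ * e⁻¹) * u⁻¹ by group, e1, inv h1 q1])
  have hte : t ∈ zpowers e := by
    rw [← qq]
    have : q ∈ zpowers e := zpowers_le.2 (mul_mem (mem_zpowers e) (mem_zpowers e)) hqe
    exact mul_mem this this
  have hsq : (u * e) * (u * e) ∈ zpowers e := by
    rw [show u * e * (u * e) = (u * e * u⁻¹) * (u * u) * e by group, Basic.inv_sq_one hu, mul_one]
    exact mul_mem (h.conj_mem ht hte (H.central u huS)) (mem_zpowers e)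
  obtain ⟨m, hm⟩ := mem_zpowers_iff.1 (zpowers_le.2 hsq hq'e)
  have hce : Commute e q' := hm ▸ (Commute.refl e).zpow_right m
  have hcu : Commute u q' := by simpa using hq'c.mul_left hce.inv_left
  exact H.no_four h hG hq'S qq' huS hu hne hconj hcu

theorem four_square (h : Nrm G) (hG : ¬ IsMulCommutative G) {u : G} (huS : u ∈ (S : Subgroup G))
    (hu : orderOf u = 2) (hne : u ≠ t) (hconj : IsConj t u) {y : G} (hyS : y ∈ (S : Subgroup G))
    (hy4 : (y * y) * (y * y) = 1) (hy2 : y * y ≠ 1) : y * y = t := by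
  classical
  have ht := H.ord
  by_contra hyt
  obtain ⟨y, ⟨hyS, hy4, hy2, hyt⟩, hmax⟩ := Set.exists_max_image
    {a | a ∈ (S : Subgroup G) ∧ (a * a) * (a * a) = 1 ∧ a * a ≠ 1 ∧ a * a ≠ t}
    (fun a => Nat.card ↥((S : Subgroup G) ⊓ centralizer ({a * a} : Set G)))
    (Set.toFinite _) ⟨y, hyS, hy4, hy2, hyt⟩
  obtain ⟨s, hs⟩ : ∃ s, s = y * y := ⟨_, rfl⟩
  rw [← hs] at hy4 hy2 hyt hmax
  have hs2 : orderOf s = 2 := Basic.orderOf_two_iff.2 ⟨hy4, hy2⟩
  have hsS : s ∈ (S : Subgroup G) := hs ▸ mul_mem hyS hyS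
  haveI : Fact (Nat.Prime 2) := ⟨Nat.prime_two⟩
  haveI : Group.IsNilpotent (S : Subgroup G) := S.2.isNilpotent
  obtain ⟨R, hR⟩ : ∃ R, R = (S : Subgroup G) ⊓ centralizer ({s} : Set G) := ⟨_, rfl⟩
  rw [← hR] at hmax
  have memR : ∀ a, a ∈ R ↔ a ∈ (S : Subgroup G) ∧ Commute a s := fun a => by
    rw [hR, mem_inf, mem_centralizer_singleton_iff]; rfl
  obtain ⟨x₀, hx₀, hx₀s⟩ := H.exists_not_commute hsS hs2 hyt
  have hlt : R.subgroupOf (S : Subgroup G) < ⊤ := lt_top_iff_ne_top.2 fun e =>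
    hx₀s ((memR x₀).1 (mem_subgroupOf.1 (e ▸ mem_top (⟨x₀, hx₀⟩ : (S : Subgroup G))))).2
  obtain ⟨g₀, hg₀, hg₀R⟩ := SetLike.exists_of_lt
    (Group.normalizerCondition_of_isNilpotent (G := (S : Subgroup G)) _ hlt)
  have hex : ∃ k : ℕ, g₀ ^ 2 ^ k ∈ R.subgroupOf (S : Subgroup G) := by
    obtain ⟨k, hk⟩ := S.2 g₀
    exact ⟨k, by rw [hk]; exact one_mem _⟩
  obtain ⟨k, hk⟩ : ∃ k, Nat.find hex = k + 1 := ⟨Nat.find hex - 1, by
    have : Nat.find hex ≠ 0 := fun e => hg₀R (by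
      have := Nat.find_spec hex; rwa [e, pow_zero, pow_one] at this)
    omega⟩
  obtain ⟨g', hg'⟩ : ∃ g', g' = g₀ ^ 2 ^ k := ⟨_, rfl⟩
  have hg'R : g' ∉ R.subgroupOf (S : Subgroup G) := hg' ▸ Nat.find_min hex (by omega)
  have hg'2 : (g' : G) * g' ∈ R := by
    have := Nat.find_spec hex
    rw [hk, pow_succ, pow_mul, ← hg', pow_two] at this
    exact mem_subgroupOf.1 this
  have hg'n : g' ∈ normalizer ((R.subgroupOf (S : Subgroup G)) : Set (S : Subgroup G)) :=
    hg' ▸ pow_mem hg₀ _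
  obtain ⟨g, hg⟩ : ∃ g, g = (g' : G) := ⟨_, rfl⟩
  have hgS : g ∈ (S : Subgroup G) := hg ▸ g'.2
  have hgR : ∀ a ∈ R, g * a * g⁻¹ ∈ R := fun a ha => by
    have := (mem_normalizer_iff.1 hg'n ⟨a, ((memR a).1 ha).1⟩).1 (mem_subgroupOf.2 ha)
    rw [hg]
    simpa [mem_subgroupOf] using this
  have hgs : ¬ Commute g s := fun k => hg'R (mem_subgroupOf.2 ((memR _).2 ⟨g'.2, hg ▸ k⟩))
  rw [← hg] at hg'2
  obtain ⟨s', hs'⟩ : ∃ s', s' = g * s * g⁻¹ := ⟨_, rfl⟩
  obtain ⟨y', hy'⟩ : ∃ y', y' = g * y * g⁻¹ := ⟨_, rfl⟩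
  have hne' : s ≠ s' := fun e => hgs (mul_inv_eq_iff_eq_mul.1 (hs' ▸ e.symm))
  have hyR : y ∈ R := (memR y).2 ⟨hyS, hs ▸ ((Commute.refl y).mul_right (Commute.refl y))⟩
  have hy'R : y' ∈ R := hy' ▸ hgR y hyR
  have hsR : s ∈ R := (memR s).2 ⟨hsS, Commute.refl s⟩
  have hfix : g * s' * g⁻¹ = s := by
    rw [hs', show g * (g * s * g⁻¹) * g⁻¹ = (g * g) * s * (g * g)⁻¹ by group,
      mul_inv_eq_iff_eq_mul.2 ((memR _).1 hg'2).2.eq]
  have hys' : Commute y s' := by
    have h1 : g⁻¹ * y * g ∈ R := by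
      have := mul_mem (mul_mem (inv_mem hg'2) (hgR y hyR)) hg'2
      rwa [show (g * g)⁻¹ * (g * y * g⁻¹) * (g * g) = g⁻¹ * y * g by group] at this
    have := ((memR _).1 h1).2.map (MulAut.conj g).toMonoidHom
    rw [hs']
    simpa [mul_assoc] using this
  have hs'2 : orderOf s' = 2 := by rw [hs', Basic.orderOf_conj, hs2]
  have hy's' : y' * y' = s' := by rw [hy', hs', hs]; group
  have hcy : Commute y y' := h.commute_of_ne (isPGroup_zpowers S.2 hyS) hs2
    (hs ▸ mul_mem (mem_zpowers y) (mem_zpowers y)) hs'2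
    (hy's' ▸ mul_mem (mem_zpowers y') (mem_zpowers y')) hne' hys' ((memR y').1 hy'R).2
  have hss' : Commute s s' := hs ▸ hys'.mul_left hys'
  have hsq : (y * y') * (y * y') = s * s' := by
    rw [mul_assoc, ← mul_assoc y' y y', ← hcy.eq, mul_assoc y y' y', hy's', ← mul_assoc, hs]
  have hyy'S : y * y' ∈ (S : Subgroup G) := mul_mem hyS ((memR y').1 hy'R).1
  have hr : s * s' = t := by
    by_contra hrt
    have h1 : (s * s') * (s * s') = 1 := by
      rw [mul_assoc, ← mul_assoc s' s s', ← hss'.eq, mul_assoc s s' s', Basic.inv_sq_one hs'2, mul_one, hy4]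
    have h2 : s * s' ≠ 1 := fun e => hne' (by rw [← inv_eq_of_mul_eq_one_right e, Basic.inv_eq hs2])
    have hle := hmax (y * y') ⟨hyy'S, by rw [hsq]; exact h1, by rw [hsq]; exact h2, by rw [hsq]; exact hrt⟩
    rw [hsq] at hle
    have hRle : R ≤ (S : Subgroup G) ⊓ centralizer ({s * s'} : Set G) := fun a ha => by
      refine mem_inf.2 ⟨((memR a).1 ha).1, mem_centralizer_singleton_iff.2 ?_⟩
      have h3 : g⁻¹ * a * g ∈ R := by
        have := mul_mem (mul_mem (inv_mem hg'2) (hgR a ha)) hg'2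
        rwa [show (g * g)⁻¹ * (g * a * g⁻¹) * (g * g) = g⁻¹ * a * g by group] at this
      have h4 := ((memR _).1 h3).2.map (MulAut.conj g).toMonoidHom
      refine (((memR a).1 ha).2.mul_right ?_).eq
      rw [hs']
      simpa [mul_assoc] using h4
    have hgin : g ∈ (S : Subgroup G) ⊓ centralizer ({s * s'} : Set G) := by
      refine mem_inf.2 ⟨hgS, mem_centralizer_singleton_iff.2 (mul_inv_eq_iff_eq_mul.1 ?_)⟩
      rw [show g * (s * s') * g⁻¹ = (g * s * g⁻¹) * (g * s' * g⁻¹) by group, hfix, ← hs', hss'.eq]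
    exact hgs ((memR g).1 ((Subgroup.eq_of_le_of_card_ge hRle hle) ▸ hgin)).2
  have hq1 : (y * y') * (y * y') = t := hsq.trans hr
  have hq2 : (y * y'⁻¹) * (y * y'⁻¹) = t := by
    rw [mul_assoc, ← mul_assoc y'⁻¹ y y'⁻¹, ← hcy.inv_right.eq, mul_assoc y y'⁻¹ y'⁻¹, ← mul_inv_rev,
      hy's', ← mul_assoc, ← hs, Basic.inv_eq hs'2, hr]
  rcases H.four_unique h hG huS hu hne hconj hyy'S (mul_mem hyS (inv_mem ((memR y').1 hy'R).1))
      hq1 hq2 with e | e
  · exact Basic.ne_one hs'2 (by rw [← hy's']; exact inv_eq_iff_mul_eq_one.1 (mul_left_cancel e))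
  · rw [mul_inv_rev, hcy.inv_inv.symm.eq] at e
    exact hy2 (hs ▸ inv_eq_iff_mul_eq_one.1 (mul_right_cancel e).symm)

/-- `S` is dihedral of order at least eight; its rotations have involution `t`. -/
theorem dihedral (h : Nrm G) (hG : ¬ IsMulCommutative G) :
    ∃ (C : Subgroup G) (n : ℕ), 2 ≤ n ∧ C ≤ (S : Subgroup G) ∧ IsCyclic C ∧
      C.relIndex (S : Subgroup G) = 2 ∧ Nonempty ((S : Subgroup G) ≃* DihedralGroup n) ∧
      (∀ c ∈ C, c ≠ 1 → t ∈ zpowers c) ∧
      ∀ s ∈ (S : Subgroup G), s ∉ C → orderOf s = 2 ∧ s ≠ t := by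
  classical
  haveI : Fact (Nat.Prime 2) := ⟨Nat.prime_two⟩
  have ht := H.ord
  have htt : t * t = 1 := Basic.inv_sq_one ht
  obtain ⟨g, hgS, hgne⟩ := exists_conj_ne hG S ht H.mem
  obtain ⟨u, rfl⟩ : ∃ u, u = g * t * g⁻¹ := ⟨_, rfl⟩
  have hconj : IsConj t (g * t * g⁻¹) := isConj_iff.2 ⟨g, rfl⟩
  have hu : orderOf (g * t * g⁻¹) = 2 := by rw [Basic.orderOf_conj, ht]
  generalize hu' : g * t * g⁻¹ = u at hgS hgne hconj hu
  have inv := fun {y : G} => H.inverted h hG hgS hu hgne hconj (y := y)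
  have sq := fun {y : G} => H.four_square h hG hgS hu hgne hconj (y := y)
  have uni := fun {a b : G} => H.four_unique h hG hgS hu hgne hconj (y₁ := a) (y₂ := b)
  -- the element of order four
  have four : ∀ e ∈ (S : Subgroup G), e * e ≠ 1 → ∃ q ∈ zpowers e, q * q = t := by
    intro e he hee
    obtain ⟨k, hk⟩ := IsPGroup.iff_card.1 (isPGroup_zpowers S.2 he)
    rw [Nat.card_zpowers] at hk
    rcases k with _ | _ | k
    · refine absurd ?_ hee
      rw [pow_zero, orderOf_eq_one_iff] at hk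
      rw [hk, mul_one]
    · exact absurd (by have := pow_orderOf_eq_one e; rwa [hk, zero_add, pow_one, pow_two] at this) hee
    refine ⟨e ^ 2 ^ k, pow_mem (mem_zpowers e) _, sq (pow_mem he _) ?_ ?_⟩
    · rw [← pow_add, ← pow_add, show 2 ^ k + 2 ^ k + (2 ^ k + 2 ^ k) = 2 ^ (k + 2) by
        rw [pow_succ, pow_succ]; ring, ← hk, pow_orderOf_eq_one]
    · intro e1
      rw [← pow_add, ← two_mul, ← pow_succ'] at e1
      exact pow_ne_one_of_lt_orderOf (by positivity) (hk ▸ Nat.pow_lt_pow_right one_lt_two (by omega)) e1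
  obtain ⟨y₀, hy₀S, hy₀⟩ : ∃ y₀ ∈ (S : Subgroup G), y₀ * y₀ = t := by
    by_contra hno
    push Not at hno
    have hexp : ∀ e ∈ (S : Subgroup G), e * e = 1 := fun e he => by
      by_contra hee
      obtain ⟨q, hq, hqq⟩ := four e he hee
      exact hno q (zpowers_le.2 he hq) hqq
    refine hgne (H.uniq u hgS hu fun s hs => ?_)
    have := hexp _ (mul_mem hs hgS)
    rw [Commute, SemiconjBy]
    have hs' := inv_eq_of_mul_eq_one_left (hexp s hs)
    have := eq_inv_of_mul_eq_one_left this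
    rwa [mul_inv_rev, hs', Basic.inv_eq hu] at this
  have ofbig : ∀ e ∈ (S : Subgroup G), e * e ≠ 1 → t ∈ zpowers e ∧ Commute e y₀ := by
    intro e he hee
    obtain ⟨q, hq, hqq⟩ := four e he hee
    refine ⟨hqq ▸ mul_mem hq hq, ?_⟩
    obtain ⟨m, rfl⟩ := mem_zpowers_iff.1 hq
    rcases uni (zpow_mem he m) hy₀S hqq hy₀ with e' | e' <;> rw [e']
    · exact (Commute.refl e).zpow_right m
    · exact ((Commute.refl e).zpow_right m).inv_right
  obtain ⟨C, hC⟩ : ∃ C, C = (S : Subgroup G) ⊓ centralizer ({y₀} : Set G) := ⟨_, rfl⟩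
  have memC : ∀ a, a ∈ C ↔ a ∈ (S : Subgroup G) ∧ Commute a y₀ := fun a => by
    rw [hC, mem_inf, mem_centralizer_singleton_iff]; rfl
  have hCS : C ≤ (S : Subgroup G) := hC ▸ inf_le_left
  have hinvC : ∀ e ∈ C, e * e = 1 → e = 1 ∨ e = t := fun e he hee => by
    have hyy : (e * y₀) * (e * y₀) = t := by
      rw [mul_assoc, ← mul_assoc y₀ e y₀, ← ((memC e).1 he).2.eq, mul_assoc e y₀ y₀, ← mul_assoc, hee,
        one_mul, hy₀]
    rcases uni hy₀S (mul_mem (hCS he) hy₀S) hy₀ hyy with k | k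
    · exact Or.inl (mul_eq_right.1 k)
    · refine Or.inr ?_
      rw [eq_mul_inv_of_mul_eq k, ← mul_inv_rev, hy₀, Basic.inv_eq ht]
  have hout : ∀ s ∈ (S : Subgroup G), s ∉ C → s * s = 1 := fun s hs hsC => by
    by_contra hss
    exact hsC ((memC s).2 ⟨hs, (ofbig s hs hss).2⟩)
  have huC : u ∉ C := fun k => H.no_four h hG hy₀S hy₀ hgS hu hgne hconj ((memC u).1 k).2
  have hneg : y₀⁻¹ ≠ y₀ := fun e => Basic.ne_one ht (by
    rw [← hy₀]; nth_rw 1 [← e]; exact inv_mul_cancel y₀)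
  have huinv : ∀ e ∈ C, u * e * u⁻¹ = e⁻¹ := by
    intro e he
    by_cases hee : e * e = 1
    · rw [inv_eq_of_mul_eq_one_right hee]
      rcases hinvC e he hee with rfl | rfl
      · simp
      · exact mul_inv_eq_iff_eq_mul.2 (H.central u hgS).eq
    · have hueC : u * e ∉ C := fun k => huC (by simpa using mul_mem k (inv_mem he))
      have := hout _ (mul_mem hgS (hCS he)) hueC
      refine eq_inv_of_mul_eq_one_left ?_
      rw [Basic.inv_eq hu]
      rw [← this]; group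
  have hCcomm : ∀ a ∈ C, ∀ b ∈ C, a * b = b * a := fun a ha b hb => by
    have := huinv _ (mul_mem ha hb)
    rw [show u * (a * b) * u⁻¹ = (u * a * u⁻¹) * (u * b * u⁻¹) by group, huinv a ha, huinv b hb,
      ← mul_inv_rev] at this
    exact (inv_injective this).symm
  haveI : IsMulCommutative C := ⟨⟨fun a b => Subtype.ext (hCcomm a a.2 b b.2)⟩⟩
  have hcyc : IsCyclic C := by
    refine Cfsg.Agent.PGroups.UniqueSubgroup.isCyclic_of_abelian (S.2.to_le hCS) fun a b ha hb ha1 => ?_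
    have ha' := congrArg Subtype.val ha
    have hb' := congrArg Subtype.val hb
    rw [coe_pow, pow_two] at ha' hb'
    have haeq : (a : G) = t := (hinvC a a.2 ha').resolve_left fun e => ha1 (Subtype.ext e)
    rcases hinvC b b.2 hb' with e | e
    · rw [show b = 1 from Subtype.ext e]; exact one_mem _
    · rw [show b = a from Subtype.ext (e.trans haeq.symm)]; exact mem_zpowers _
  have hrel : C.relIndex (S : Subgroup G) = 2 := by
    refine Subgroup.index_eq_two_iff.2 ⟨⟨u, hgS⟩, fun b => ?_⟩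
    simp only [mem_subgroupOf, coe_mul, memC, mul_mem_cancel_right hgS, SetLike.coe_mem, true_and]
    have key : (b : G) * u * y₀ * ((b : G) * u)⁻¹ = ((b : G) * y₀ * (b : G)⁻¹)⁻¹ := by
      rw [show (b : G) * u * y₀ * ((b : G) * u)⁻¹ = (b : G) * (u * y₀ * u⁻¹) * (b : G)⁻¹ by group,
        inv hy₀S hy₀, conj_inv]
    rcases h.conj_four ht hy₀ (H.central b b.2) with e | e
    · refine Or.inr ⟨mul_inv_eq_iff_eq_mul.1 e, fun k => ?_⟩
      rw [mul_inv_eq_iff_eq_mul.2 k.eq, e] at key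
      exact hneg key.symm
    · refine Or.inl ⟨mul_inv_eq_iff_eq_mul.1 (by rw [key, e, inv_inv]), fun k => ?_⟩
      exact hneg (e.symm.trans (mul_inv_eq_iff_eq_mul.2 k.eq))
  obtain ⟨c, -, hco, hiso⟩ := Cfsg.Agent.Forms.DicksonShapes.dihedral_of (C.subgroupOf (S : Subgroup G))
    hrel ((subgroupOfEquivOfLe hCS).isCyclic.2 hcyc) (fun s hs => by
      refine Subtype.ext ?_
      exact hout s s.2 (fun k => hs (mem_subgroupOf.2 k)))
  refine ⟨C, orderOf c, ?_, hCS, hcyc, hrel, hiso, fun e he he1 => ?_, fun s hs hsC => ?_⟩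
  · rw [hco, Nat.card_congr (subgroupOfEquivOfLe hCS).toEquiv]
    have : Nontrivial C := ⟨⟨⟨t, (memC t).2 ⟨H.mem, (H.central y₀ hy₀S).symm⟩⟩, 1,
      fun k => Basic.ne_one ht (congrArg Subtype.val k)⟩⟩
    exact Finite.one_lt_card
  · by_cases hee : e * e = 1
    · rw [(hinvC e he hee).resolve_left he1]; exact mem_zpowers t
    · exact (ofbig e (hCS he) hee).1
  · have hs1 : s ≠ 1 := fun k => hsC (k ▸ one_mem C)
    exact ⟨Basic.orderOf_two_iff.2 ⟨hout s hs hsC, hs1⟩,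
      fun k => hsC (k ▸ (memC t).2 ⟨H.mem, (H.central y₀ hy₀S).symm⟩)⟩

end OneInv

end Cfsg.Agent.NormEq
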