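import Cfsg.Agent.NormEq.Basic

/-!
# A closed elementary abelian subgroup with constant centralizer
-/

set_option autoImplicit false
set_option linter.style.haveILetI false
set_option linter.unusedSectionVars false

namespace Cfsg.Agent.NormEq

open Subgroup Cfsg.Agent.Involutions

variable {G : Type*} [Group G] [Finite G]

/-- An element is a product of powers of odd order and of `2`-power order. -/
theorem exists_parts (c : G) : ∃ a b : G, a ∈ zpowers c ∧ b ∈ zpowers c ∧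
    IsPGroup 2 (zpowers a) ∧ Odd (orderOf b) ∧ c = a * b := by
  obtain ⟨k, m, hm, hkm⟩ := Nat.exists_eq_pow_mul_and_not_dvd (orderOf_pos c).ne' 2 (by norm_num)
  have hco : Nat.Coprime (2 ^ k) m := ((Nat.prime_two.coprime_iff_not_dvd).2 hm).pow_left k
  have hb := Nat.gcd_eq_gcd_ab (2 ^ k) m
  rw [Nat.coprime_iff_gcd_eq_one.1 hco] at hb
  refine ⟨c ^ ((m : ℤ) * Nat.gcdB (2 ^ k) m), c ^ (((2 ^ k : ℕ) : ℤ) * Nat.gcdA (2 ^ k) m),
    ⟨_, rfl⟩, ⟨_, rfl⟩, ?_, ?_, ?_⟩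
  · have hd : orderOf (c ^ ((m : ℤ) * Nat.gcdB (2 ^ k) m)) ∣ 2 ^ k := by
      refine Int.natCast_dvd_natCast.1 (orderOf_dvd_iff_zpow_eq_one.2 ?_)
      rw [← zpow_mul, ← orderOf_dvd_iff_zpow_eq_one, hkm]
      exact ⟨Nat.gcdB (2 ^ k) m, by push_cast; ring⟩
    obtain ⟨j, -, hj⟩ := (Nat.dvd_prime_pow Nat.prime_two).1 hd
    exact IsPGroup.of_card (n := j) (by rw [Nat.card_zpowers, hj])
  · refine Odd.of_dvd_nat (Nat.odd_iff.2 (by omega : m % 2 = 1))
      (Int.natCast_dvd_natCast.1 (orderOf_dvd_iff_zpow_eq_one.2 ?_))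
    rw [← zpow_mul, ← orderOf_dvd_iff_zpow_eq_one, hkm]
    exact ⟨Nat.gcdA (2 ^ k) m, by push_cast; ring⟩
  · rw [← zpow_add, show (m : ℤ) * Nat.gcdB (2 ^ k) m + ((2 ^ k : ℕ) : ℤ) * Nat.gcdA (2 ^ k) m = 1 by
      push_cast at hb ⊢; linarith, zpow_one]

/-- Two involutions are conjugate or commute with a common involution. -/
theorem conj_or_common {x y : G} (hx : orderOf x = 2) (hy : orderOf y = 2) :
    IsConj x y ∨ ∃ i, orderOf i = 2 ∧ Commute i x ∧ Commute i y := by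
  rcases Nat.even_or_odd (orderOf (x * y)) with hev | hodd
  · refine Or.inr ⟨(x * y) ^ (orderOf (x * y) / 2),
      orderOf_pow_orderOf_div (orderOf_pos _).ne' hev.two_dvd, ?_⟩
    set i := (x * y) ^ (orderOf (x * y) / 2) with hi
    have hi2 : orderOf i = 2 := orderOf_pow_orderOf_div (orderOf_pos _).ne' hev.two_dvd
    refine ⟨?_, ?_⟩
    · have e : x * i * x⁻¹ = i := by
        conv_lhs => rw [hi, ← conj_pow, Basic.conj_prod_left hx hy, inv_pow, ← hi, Basic.inv_eq hi2]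
      exact (mul_inv_eq_iff_eq_mul.1 e).symm
    · have e : y * i * y⁻¹ = i := by
        conv_lhs => rw [hi, ← conj_pow, Basic.conj_prod_right hx hy, inv_pow, ← hi, Basic.inv_eq hi2]
      exact (mul_inv_eq_iff_eq_mul.1 e).symm
  · obtain ⟨d, -, hd⟩ := Basic.exists_conj_of_odd hx hy hodd
    exact Or.inl (isConj_iff.2 ⟨d, hd⟩)

/-- Elementary abelian `E` with all centralizers equal to `C`, closed in `C` under conjugation. -/
structure Closed (E C : Subgroup G) (e₁ e₂ : G) : Prop where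
  mem₁ : e₁ ∈ E
  mem₂ : e₂ ∈ E
  ne₁ : e₁ ≠ 1
  ne₂ : e₂ ≠ 1
  ne : e₁ ≠ e₂
  sq : ∀ e ∈ E, e * e = 1
  cent : ∀ e ∈ E, e ≠ 1 → centralizer ({e} : Set G) = C
  closed : ∀ e ∈ E, e ≠ 1 → ∀ g : G, g * e * g⁻¹ ∈ C → g * e * g⁻¹ ∈ E

namespace Closed

variable {E C : Subgroup G} {e₁ e₂ : G} (H : Closed E C e₁ e₂)

include H

theorem order_two {e : G} (he : e ∈ E) (h1 : e ≠ 1) : orderOf e = 2 :=
  Basic.orderOf_two_iff.2 ⟨H.sq e he, h1⟩

theorem comm {a b : G} (ha : a ∈ E) (hb : b ∈ E) : Commute a b := by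
  have h := H.sq _ (mul_mem ha hb)
  have ha' : a⁻¹ = a := inv_eq_of_mul_eq_one_left (H.sq a ha)
  have hb' : b⁻¹ = b := inv_eq_of_mul_eq_one_left (H.sq b hb)
  have := eq_inv_of_mul_eq_one_left h
  rwa [mul_inv_rev, ha', hb'] at this

theorem mem_cent {e c : G} (he : e ∈ E) (h1 : e ≠ 1) : c ∈ C ↔ Commute c e := by
  rw [← H.cent e he h1, mem_centralizer_singleton_iff]; rfl

theorem E_le_C : E ≤ C := fun _ hc => (H.mem_cent H.mem₁ H.ne₁).2 (H.comm hc H.mem₁)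

theorem mem_M_of_mem {e g : G} (he : e ∈ E) (h1 : e ≠ 1) (hge : g * e * g⁻¹ ∈ E) :
    g ∈ normalizer (E : Set G) := by
  have h1' : g * e * g⁻¹ ≠ 1 := fun k => h1 (conj_eq_one_iff.1 k)
  have hC : ∀ c ∈ C, g * c * g⁻¹ ∈ C := fun c hc => by
    rw [H.mem_cent hge h1']
    exact ((H.mem_cent he h1).1 hc).map (MulAut.conj g).toMonoidHom
  have hsub : ∀ d ∈ E, g * d * g⁻¹ ∈ E := fun d hd => by
    rcases eq_or_ne d 1 with rfl | hd1
    · simp
    exact H.closed d hd hd1 g (hC d (H.E_le_C hd))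
  rw [mem_normalizer_iff]
  refine fun d => ⟨hsub d, fun hd => ?_⟩
  let f : ↥E → ↥E := fun d => ⟨g * d * g⁻¹, hsub d d.2⟩
  have hf : Function.Injective f := fun a b e =>
    Subtype.ext (mul_left_cancel (mul_right_cancel (congrArg Subtype.val e)))
  obtain ⟨a, ha⟩ := (Finite.injective_iff_surjective.1 hf) ⟨_, hd⟩
  rw [← mul_left_cancel (mul_right_cancel (congrArg Subtype.val ha))]
  exact a.2

theorem C_le_M : C ≤ normalizer (E : Set G) := fun c hc => by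
  refine H.mem_M_of_mem H.mem₁ H.ne₁ ?_
  rw [mul_inv_eq_iff_eq_mul.2 ((H.mem_cent H.mem₁ H.ne₁).1 hc).eq]
  exact H.mem₁

theorem mem_C_of_inv {f : G} (hf : orderOf f = 2) (hfM : f ∈ normalizer (E : Set G)) : f ∈ C := by
  have hff : f * f = 1 := Basic.inv_sq_one hf
  have hfi : f⁻¹ = f := Basic.inv_eq hf
  set b := f * e₁ * f⁻¹ with hb
  have hbE : b ∈ E := (mem_normalizer_iff.1 hfM e₁).1 H.mem₁
  rcases eq_or_ne (e₁ * b) 1 with e0 | e0
  · refine (H.mem_cent H.mem₁ H.ne₁).2 (mul_inv_eq_iff_eq_mul.1 ?_)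
    rw [← hb, ← inv_eq_of_mul_eq_one_right e0, inv_eq_of_mul_eq_one_left (H.sq _ H.mem₁)]
  · refine (H.mem_cent (mul_mem H.mem₁ hbE) e0).2 (mul_inv_eq_iff_eq_mul.1 ?_)
    rw [conj_mul.symm, ← hb, (H.comm H.mem₁ hbE).eq]
    congr 1
    rw [hb, show f * (f * e₁ * f⁻¹) * f⁻¹ = (f * f) * e₁ * (f * f)⁻¹ by group, hff]
    simp

theorem conj_mem_E {f e : G} (hf : orderOf f = 2) (hfM : f ∈ normalizer (E : Set G)) (he : e ∈ E)
    (h1 : e ≠ 1) (hc : IsConj e f) : f ∈ E := by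
  obtain ⟨g, rfl⟩ := isConj_iff.1 hc
  exact H.closed e he h1 g (H.mem_C_of_inv hf hfM)

theorem conj_e₁_notMem {g : G} (hg : g ∉ normalizer (E : Set G)) :
    g * e₁ * g⁻¹ ∉ normalizer (E : Set G) := fun hm =>
  hg (H.mem_M_of_mem H.mem₁ H.ne₁ (H.conj_mem_E
    (by rw [Basic.orderOf_conj]; exact H.order_two H.mem₁ H.ne₁) hm H.mem₁ H.ne₁
    (isConj_iff.2 ⟨g, rfl⟩)))

variable (h : Nrm G)

include h

theorem cent_le_M {w : G} (hw : orderOf w = 2) (hwC : w ∈ C) :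
    centralizer ({w} : Set G) ≤ normalizer (E : Set G) := by
  have hcw : ∀ e ∈ E, Commute e w := fun e he => by
    rcases eq_or_ne e 1 with rfl | h1
    · exact Commute.one_left w
    exact ((H.mem_cent he h1).1 hwC).symm
  by_cases hodd : ∃ x, x ≠ 1 ∧ Odd (orderOf x) ∧ Commute x w
  · obtain ⟨x, hx1, hxo, hxw⟩ := hodd
    obtain ⟨e, he, hce⟩ := h.exists_cent_eq (H.order_two H.mem₁ H.ne₁) (H.order_two H.mem₂ H.ne₂)
      H.ne (H.comm H.mem₁ H.mem₂) hw (hcw _ H.mem₁) (hcw _ H.mem₂) hxo hx1 hxw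
    have heE : e ∈ E ∧ e ≠ 1 := by
      rcases he with rfl | rfl | rfl
      · exact ⟨H.mem₁, H.ne₁⟩
      · exact ⟨H.mem₂, H.ne₂⟩
      · refine ⟨mul_mem H.mem₁ H.mem₂, fun k => H.ne ?_⟩
        rw [eq_inv_of_mul_eq_one_left k, inv_eq_of_mul_eq_one_left (H.sq _ H.mem₂)]
    rw [← hce, H.cent e heE.1 heE.2]
    exact H.C_le_M
  · push Not at hodd
    set P := centralizer ({w} : Set G) with hP
    have hP2 : IsPGroup 2 P := fun c => by
      obtain ⟨a, b, -, hb, ha2, hbo, hc⟩ := exists_parts (c : G)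
      have hbP : b ∈ P := zpowers_le.2 c.2 hb
      have hb1 : b = 1 := by
        by_contra hb1
        exact hodd b hb1 hbo (mem_centralizer_singleton_iff.1 hbP)
      rw [hb1, mul_one] at hc
      obtain ⟨k, hk⟩ := ha2 ⟨(c : G), by rw [hc]; exact mem_zpowers a⟩
      exact ⟨k, Subtype.ext (by simpa using congrArg Subtype.val hk)⟩
    haveI : Fact (Nat.Prime 2) := ⟨Nat.prime_two⟩
    haveI : Group.IsNilpotent P := hP2.isNilpotent
    set Q : Subgroup P := (normalizer (E : Set G)).subgroupOf P with hQ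
    by_contra hle
    have hQlt : Q < ⊤ := lt_top_iff_ne_top.2 fun e => hle (subgroupOf_eq_top.1 e)
    obtain ⟨n, hn, hnQ⟩ := SetLike.exists_of_lt (Group.normalizerCondition_of_isNilpotent (G := P) Q hQlt)
    refine hnQ (mem_subgroupOf.2 ?_)
    have hEP : ∀ e ∈ E, e ∈ P := fun e he => mem_centralizer_singleton_iff.2 (hcw e he).eq
    have he1Q : (⟨e₁, hEP _ H.mem₁⟩ : P) ∈ Q := mem_subgroupOf.2 (le_normalizer H.mem₁)
    have hmem : (n : G) * e₁ * (n : G)⁻¹ ∈ normalizer (E : Set G) := by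
      simpa [hQ, mem_subgroupOf] using (mem_normalizer_iff.1 hn _).1 he1Q
    by_contra hnM
    exact H.conj_e₁_notMem hnM hmem

theorem exists_notMem [IsSimpleGroup G] (hG : ¬ IsMulCommutative G) :
    ∃ g, g ∉ normalizer (E : Set G) := by
  by_contra hall
  push Not at hall
  haveI : E.Normal := normalizer_eq_top_iff.1 ((eq_top_iff' _).2 hall)
  rcases Subgroup.Normal.eq_bot_or_eq_top ‹E.Normal› with hb | ht
  · exact H.ne₁ (mem_bot.1 (hb ▸ H.mem₁))
  · exact hG ⟨⟨fun a b => (H.comm (ht ▸ mem_top a) (ht ▸ mem_top b)).eq⟩⟩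

theorem inv_mem_E [IsSimpleGroup G] (hG : ¬ IsMulCommutative G) {w : G} (hw : orderOf w = 2)
    (hwM : w ∈ normalizer (E : Set G)) : w ∈ E := by
  obtain ⟨g, hg⟩ := H.exists_notMem h hG
  have hfM := H.conj_e₁_notMem hg
  rcases conj_or_common hw (show orderOf (g * e₁ * g⁻¹) = 2 by
    rw [Basic.orderOf_conj]; exact H.order_two H.mem₁ H.ne₁) with hc | ⟨i, hi, hiw, hif⟩
  · exact H.conj_mem_E hw hwM H.mem₁ H.ne₁ ((isConj_iff.2 ⟨g, rfl⟩ : IsConj e₁ _).trans hc.symm)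
  · exfalso
    have hwC := H.mem_C_of_inv hw hwM
    have hiM : i ∈ normalizer (E : Set G) :=
      H.cent_le_M h hw hwC (mem_centralizer_singleton_iff.2 hiw.eq)
    exact hfM (H.cent_le_M h hi (H.mem_C_of_inv hi hiM) (mem_centralizer_singleton_iff.2 hif.symm.eq))

theorem isConj_e₁ [IsSimpleGroup G] (hG : ¬ IsMulCommutative G) {r : G} (hr : orderOf r = 2) :
    IsConj e₁ r := by
  have out : ∀ {s e : G}, orderOf s = 2 → s ∉ normalizer (E : Set G) → e ∈ E → e ≠ 1 →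
      IsConj e s := by
    intro s e hs hsM he he1
    rcases conj_or_common (H.order_two he he1) hs with hc | ⟨i, hi, hie, his⟩
    · exact hc
    exfalso
    have hiC : i ∈ C := (H.mem_cent he he1).2 hie
    have hiE := H.inv_mem_E h hG hi (H.C_le_M hiC)
    exact hsM (H.C_le_M ((H.mem_cent hiE (Basic.ne_one hi)).2 his.symm))
  by_cases hrM : r ∈ normalizer (E : Set G)
  · obtain ⟨g, hg⟩ := H.exists_notMem h hG
    have hs : orderOf (g * e₁ * g⁻¹) = 2 := by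
      rw [Basic.orderOf_conj]; exact H.order_two H.mem₁ H.ne₁
    exact (isConj_iff.2 ⟨g, rfl⟩).trans
      (out hs (H.conj_e₁_notMem hg) (H.inv_mem_E h hG hr hrM) (Basic.ne_one hr)).symm
  · exact out hr hrM H.mem₁ H.ne₁

theorem comm_two [IsSimpleGroup G] (hG : ¬ IsMulCommutative G) {y z : G} (hy : y ∈ C) (hz : z ∈ C)
    (hy2 : IsPGroup 2 (zpowers y)) (hz2 : IsPGroup 2 (zpowers z)) : Commute y z := by
  have facts : ∀ y ∈ C, IsPGroup 2 (zpowers y) → y ≠ 1 →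
      ∃ i, orderOf i = 2 ∧ i ∈ zpowers y ∧ i ∈ E := fun y hy hy2 hy1 => by
    obtain ⟨i, hi, hiy⟩ := exists_inv hy2 hy1
    exact ⟨i, hi, hiy, H.inv_mem_E h hG hi (H.C_le_M (zpowers_le.2 hy hiy))⟩
  have ceq : ∀ {i d : G}, orderOf i = 2 → i ∈ E → d ∈ C → Commute d i :=
    fun hi hiE hd => (H.mem_cent hiE (Basic.ne_one hi)).1 hd
  have nc : ∀ {y z s : G}, y ∈ C → z ∈ C → IsPGroup 2 (zpowers y) → IsPGroup 2 (zpowers z) →
      ¬ Commute y z → orderOf s = 2 → s ∈ zpowers y → s ∈ E → s ∈ zpowers z := by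
    intro y z s hy hz hy2 hz2 hne hs hsy hsE
    have hz1 : z ≠ 1 := by rintro rfl; exact hne (Commute.one_right y)
    obtain ⟨r, hr, hrz, hrE⟩ := facts z hz hz2 hz1
    by_cases hsr : s = r
    · exact hsr ▸ hrz
    · exact absurd (h.commute_of_ne hy2 hs hsy hr hrz hsr (ceq hr hrE hy) (ceq hs hsE hz)) hne
  by_contra hne
  have hy1 : y ≠ 1 := by rintro rfl; exact hne (Commute.one_left z)
  obtain ⟨s, hs, hsy, hsE⟩ := facts y hy hy2 hy1
  have hsz := nc hy hz hy2 hz2 hne hs hsy hsE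
  obtain ⟨s', hs', hs'1, hne'⟩ : ∃ s' ∈ E, s' ≠ 1 ∧ s' ≠ s := by
    by_cases e : e₁ = s
    · exact ⟨e₂, H.mem₂, H.ne₂, fun k => H.ne (e.trans k.symm)⟩
    · exact ⟨e₁, H.mem₁, H.ne₁, e⟩
  obtain ⟨g, hg⟩ := isConj_iff.1 ((H.isConj_e₁ h hG hs).symm.trans
    (H.isConj_e₁ h hG (H.order_two hs' hs'1)))
  have hCg : ∀ c ∈ C, g * c * g⁻¹ ∈ C := fun c hc => by
    rw [H.mem_cent hs' hs'1, ← hg]
    exact ((H.mem_cent hsE (Basic.ne_one hs)).1 hc).map (MulAut.conj g).toMonoidHom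
  have hmap : ∀ {w v : G}, v ∈ zpowers w → g * v * g⁻¹ ∈ zpowers (g * w * g⁻¹) := fun hv => by
    obtain ⟨n, rfl⟩ := mem_zpowers_iff.1 hv
    exact ⟨n, conj_zpow⟩
  have hp : ∀ {w : G}, IsPGroup 2 (zpowers w) → IsPGroup 2 (zpowers (g * w * g⁻¹)) := fun {w} hw => by
    obtain ⟨n, hn⟩ := IsPGroup.iff_card.1 hw
    exact IsPGroup.of_card (n := n) (by rw [Nat.card_zpowers, Basic.orderOf_conj, ← Nat.card_zpowers, hn])
  set a := g * y * g⁻¹ with ha
  set b := g * z * g⁻¹ with hb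
  have hs'a : s' ∈ zpowers a := hg ▸ hmap hsy
  have hs'b : s' ∈ zpowers b := hg ▸ hmap hsz
  have hso := H.order_two hs' hs'1
  have cab : ¬ Commute a b := fun k => hne ((Commute.conj_iff g).1 k)
  have cya : Commute y a := h.commute_of_ne hy2 hs hsy hso hs'a hne'.symm (ceq hso hs' hy) (ceq hs hsE (hCg y hy))
  have cyb : Commute y b := h.commute_of_ne hy2 hs hsy hso hs'b hne'.symm (ceq hso hs' hy) (ceq hs hsE (hCg z hz))
  have cza : Commute z a := h.commute_of_ne hz2 hs hsz hso hs'a hne'.symm (ceq hso hs' hz) (ceq hs hsE (hCg y hy))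
  have hya : IsPGroup 2 (zpowers (y * a)) := by
    obtain ⟨i, hi⟩ := IsPGroup.iff_card.1 hy2
    obtain ⟨j, hj⟩ := IsPGroup.iff_card.1 (hp hy2)
    rw [Nat.card_zpowers] at hi hj
    obtain ⟨k, -, hk⟩ := (Nat.dvd_prime_pow Nat.prime_two).1
      (show orderOf (y * a) ∣ 2 ^ (i + j) from cya.orderOf_mul_dvd_mul_orderOf.trans
        (by rw [hi, hj, pow_add]))
    exact IsPGroup.of_card (n := k) (by rw [Nat.card_zpowers, hk])
  have n1 : ¬ Commute (y * a) z := fun k => hne (by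
    have := k.mul_left cza.symm.inv_left
    rwa [mul_inv_cancel_right] at this)
  have n2 : ¬ Commute (y * a) b := fun k => cab (by
    have := cyb.inv_left.mul_left k
    rwa [inv_mul_cancel_left] at this)
  obtain ⟨r, hr, hrya, hrE⟩ := facts (y * a) (mul_mem hy (hCg y hy)) hya
    (fun e => n1 (by rw [e]; exact Commute.one_left z))
  have r1 := nc (mul_mem hy (hCg y hy)) hz hya hz2 n1 hr hrya hrE
  have r2 := nc (mul_mem hy (hCg y hy)) (hCg z hz) hya (hp hz2) n2 hr hrya hrE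
  exact hne' ((inv_unique hr hso r2 hs'b).trans (inv_unique hs hr hsz r1))

/-- All involution centralizers are abelian. -/
theorem main [IsSimpleGroup G] (hG : ¬ IsMulCommutative G) (t : G) (ht : orderOf t = 2) :
    IsMulCommutative (centralizer ({t} : Set G)) := by
  have he := H.order_two H.mem₁ H.ne₁
  have codd : ∀ {a x : G}, a ∈ C → x ∈ C → IsPGroup 2 (zpowers a) → Odd (orderOf x) → Commute a x := by
    intro a x ha hx ha2 hxo
    rcases eq_or_ne a 1 with rfl | ha1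
    · exact Commute.one_left x
    obtain ⟨i, hi, hia⟩ := exists_inv ha2 ha1
    have hiE := H.inv_mem_E h hG hi (H.C_le_M (zpowers_le.2 ha hia))
    refine h.fix_of_cent he ha2 hi hia ?_ ((h.mem_odds he).2 ⟨(H.mem_cent H.mem₁ H.ne₁).1 hx, hxo⟩)
    rw [H.cent i hiE (Basic.ne_one hi), H.cent e₁ H.mem₁ H.ne₁]
  have hCcomm : ∀ c ∈ C, ∀ d ∈ C, Commute c d := by
    intro c hc d hd
    obtain ⟨a, b, ha, hb, ha2, hbo, rfl⟩ := exists_parts c
    obtain ⟨a', b', ha', hb', ha2', hbo', rfl⟩ := exists_parts d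
    have haC := zpowers_le.2 hc ha
    have hbC := zpowers_le.2 hc hb
    have haC' := zpowers_le.2 hd ha'
    have hbC' := zpowers_le.2 hd hb'
    have mem : ∀ {x : G}, x ∈ C → Odd (orderOf x) → x ∈ odds e₁ := fun hx hxo =>
      (h.mem_odds he).2 ⟨(H.mem_cent H.mem₁ H.ne₁).1 hx, hxo⟩
    exact ((H.comm_two h hG haC haC' ha2 ha2').mul_right (codd haC hbC' ha2 hbo')).mul_left
      ((codd haC' hbC ha2' hbo).symm.mul_right (h.odds_comm he (mem hbC hbo) (mem hbC' hbo')))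
  obtain ⟨g, rfl⟩ := isConj_iff.1 (H.isConj_e₁ h hG ht)
  refine ⟨⟨fun ⟨c, hc⟩ ⟨d, hd⟩ => Subtype.ext ?_⟩⟩
  have pull : ∀ {c : G}, c ∈ centralizer ({g * e₁ * g⁻¹} : Set G) → g⁻¹ * c * g ∈ C := fun {c} hc => by
    rw [mem_centralizer_singleton_iff] at hc
    rw [H.mem_cent H.mem₁ H.ne₁]
    have := (show Commute c (g * e₁ * g⁻¹) from hc).map (MulAut.conj g⁻¹).toMonoidHom
    simpa [mul_assoc] using this
  have key := hCcomm _ (pull hc) _ (pull hd)
  have := key.map (MulAut.conj g).toMonoidHom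
  simpa [mul_assoc] using this.eq

end Closed

end Cfsg.Agent.NormEq
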