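import Cfsg.Agent.NormEq.CenterFour
import Cfsg.Agent.NormEq.CenterOne
import Cfsg.Agent.S0205
import Cfsg.Agent.S0219
import Cfsg.Agent.S0250
import Cfsg.Agent.S0251
import Cfsg.Agent.S0252
import Cfsg.Agent.S0253
import Cfsg.Agent.S0508
import Cfsg.Agent.S2202
import Cfsg.Agent.Lib.PrimeBlock.Brauer.CubePerfect
import Cfsg.Agent.Lib.SmallSimple.AltEightSubgroups

/-!
# Simple groups with equal normalizers are `PSL₂(q)`
-/

set_option autoImplicit false
set_option linter.style.haveILetI false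
set_option linter.unusedSectionVars false

namespace Cfsg.Agent.NormEq

open Subgroup Cfsg.Agent.Involutions

variable {G : Type*} [Group G] [Finite G] [IsSimpleGroup G]

theorem not_solvable_of_noncomm (hG : ¬ IsMulCommutative G) : ¬ Group.IsSolvable G := fun hs =>
  hG ⟨⟨IsSimpleGroup.comm_iff_isSolvable.2 hs⟩⟩

/-- The case of dihedral Sylow subgroups, by the theorem of Brauer, Suzuki and Wall. -/
theorem dih_case (h : Nrm G) (hG : ¬ IsMulCommutative G) {S : Sylow 2 G} {t : G} (H : Dih S t) :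
    ∃ (F : Type) (_ : Field F) (_ : Fintype F), 3 < Fintype.card F ∧ Fintype.card F ≠ 4 ∧
      Nonempty (G ≃* Matrix.ProjectiveSpecialLinearGroup (Fin 2) F) := by
  classical
  obtain ⟨ht, htS, htc, C, n, hn, hCS, hcyc, hrel, hiso, hrot, hout, hcl⟩ := H
  have htC : t ∈ C := by
    obtain ⟨c, hc⟩ : ∃ c, c ∈ C ∧ c ≠ 1 := by
      by_contra hno
      push Not at hno
      have hb : C = ⊥ := (eq_bot_iff_forall C).2 hno
      rw [hb, relIndex_bot_left, Nat.card_congr hiso.some.toEquiv, DihedralGroup.nat_card] at hrel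
      omega
    exact zpowers_le.2 hc.1 (hrot c hc.1 hc.2)
  have hS2 : IsPGroup 2 (S : Subgroup G) := S.2
  have hCc : C ≤ centralizer (odds t : Set G) := by
    intro c hc
    rw [mem_centralizer_iff]
    intro x hx
    rcases eq_or_ne c 1 with rfl | hc1
    · simp
    · exact (h.fix_of_cent ht (isPGroup_zpowers hS2 (hCS hc)) ht (hrot c hc hc1) rfl hx).symm.eq
  have hinv : ∀ s ∈ (S : Subgroup G), s ∉ C → ∀ x ∈ odds t, s * x * s⁻¹ = x⁻¹ := by
    intro s hs hsC x hx
    by_cases hO : odds t = ⊥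
    · rw [hO, mem_bot] at hx; subst hx; simp
    · have hne : s ≠ t := fun e => hsC (e ▸ htC)
      exact h.invert ht (hout s hs hsC) (htc s hs) (hcl hO s hs (hout s hs hsC) hne) hx
  have ha : odds t ≠ ⊥ → IsCyclic ((S : Subgroup G) ⊓ centralizer (odds t : Set G) : Subgroup G) ∧
      ((S : Subgroup G) ⊓ centralizer (odds t : Set G)).relIndex (S : Subgroup G) = 2 := by
    intro hO
    obtain ⟨x, hx, hx1⟩ : ∃ x, x ∈ odds t ∧ x ≠ 1 := by
      by_contra hno
      push Not at hno
      exact hO ((eq_bot_iff_forall _).2 hno)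
    have he : (S : Subgroup G) ⊓ centralizer (odds t : Set G) = C := by
      refine le_antisymm (fun s hs => ?_) (le_inf hCS hCc)
      by_contra hsC
      have h1 := hinv s hs.1 hsC x hx
      rw [← mem_centralizer_iff.1 hs.2 x hx, mul_inv_cancel_right] at h1
      have hd : orderOf x ∣ 2 := orderOf_dvd_of_pow_eq_one (by rw [pow_two]; nth_rw 2 [h1]; simp)
      obtain ⟨m, hm⟩ := ((h.mem_odds ht).1 hx).2
      rcases (Nat.dvd_prime Nat.prime_two).1 hd with e | e
      · exact hx1 (orderOf_eq_one_iff.1 e)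
      · omega
    rw [he]
    exact ⟨hcyc, hrel⟩
  have hb : ∀ s ∈ (S : Subgroup G), s ∉ centralizer (odds t : Set G) → ∀ y ∈ odds t,
      s * y * s⁻¹ = y⁻¹ :=
    fun s hs hsc => hinv s hs fun k => hsc (hCc k)
  have hc : ∀ Y : Subgroup G, Y ≤ odds t → Y ≠ ⊥ →
      normalizer (Y : Set G) ≤ centralizer ({t} : Set G) := by
    intro Y hY hY1 g hg
    obtain ⟨x, hx, hx1⟩ : ∃ x, x ∈ Y ∧ x ≠ 1 := by
      by_contra hno
      push Not at hno
      exact hY1 ((eq_bot_iff_forall _).2 hno)
    obtain ⟨hxt, hxo⟩ := (h.mem_odds ht).1 (hY hx)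
    have hgx : g * x * g⁻¹ ∈ Y := (mem_normalizer_iff.1 hg x).1 hx
    obtain ⟨hyt, hyo⟩ := (h.mem_odds ht).1 (hY hgx)
    have he : orderOf (g * t * g⁻¹) = 2 := by rw [Basic.orderOf_conj, ht]
    have hye : Commute (g * x * g⁻¹) (g * t * g⁻¹) := by
      simpa using hxt.map (MulAut.conj g).toMonoidHom
    have hcent := h.cent_eq_of_comm ht he hyo (fun e => hx1 (conj_eq_one_iff.1 e)) hyt hye
    have hcomm : ∀ s ∈ (S : Subgroup G), Commute s (g * t * g⁻¹) := fun s hs => by
      have : s ∈ centralizer ({g * t * g⁻¹} : Set G) :=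
        hcent ▸ mem_centralizer_singleton_iff.2 (htc s hs).eq
      exact mem_centralizer_singleton_iff.1 this
    have heS : g * t * g⁻¹ ∈ (S : Subgroup G) := by
      haveI : Fact (Nat.Prime 2) := ⟨Nat.prime_two⟩
      have hp : IsPGroup 2 (zpowers (g * t * g⁻¹)) :=
        IsPGroup.of_card (n := 1) (by rw [Nat.card_zpowers, he, pow_one])
      have hle : (S : Subgroup G) ≤ normalizer (zpowers (g * t * g⁻¹) : Set G) := fun s hs => by
        rw [normalizer_involution he, mem_centralizer_singleton_iff]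
        exact (hcomm s hs).eq
      have := S.is_maximal' (hS2.to_sup_of_normal_right' hp hle) le_sup_left
      exact this ▸ mem_sup_right (mem_zpowers _)
    have het : g * t * g⁻¹ = t := by
      by_contra hne
      refine hcl (fun hO => hx1 ?_) _ heS he hne hcent
      exact mem_bot.1 (hO ▸ hY hx)
    exact mem_centralizer_singleton_iff.2 (mul_inv_eq_iff_eq_mul.1 het)
  obtain ⟨F, iF, iF', hodd, ⟨e⟩⟩ := Cfsg.Agent.S0508.result S n hn hiso t ht htS
    (fun s hs => (htc s hs).eq) (odds t) rfl ha hb hc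
  letI := iF; letI := iF'
  have h3 : Fintype.card F ≠ 3 := by
    intro h3
    obtain ⟨e'⟩ := Cfsg.Agent.S0251.result h3
    refine not_solvable_of_noncomm hG (SmallSimple.AltEightSubgroups.solvable_of_dvd_24 ⟨2, ?_⟩)
    rw [Nat.card_congr (e.trans e').toEquiv]
    rw [nat_card_alternatingGroup, Nat.card_eq_fintype_card, Fintype.card_fin]
    rfl
  have h1 := Fintype.one_lt_card (α := F)
  obtain ⟨j, hj⟩ := hodd
  exact ⟨F, iF, iF', by omega, by omega, ⟨e⟩⟩

/-- The case of abelian centralizers of involutions. -/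
theorem abelian_case (hG : ¬ IsMulCommutative G) (hev : Even (Nat.card G))
    (hc : ∀ r : G, orderOf r = 2 → IsMulCommutative (centralizer ({r} : Set G))) :
    ∃ (F : Type) (_ : Field F) (_ : Fintype F), 3 < Fintype.card F ∧ Fintype.card F ≠ 4 ∧
      Nonempty (G ≃* Matrix.ProjectiveSpecialLinearGroup (Fin 2) F) := by
  classical
  haveI : Fact (Nat.Prime 2) := ⟨Nat.prime_two⟩
  obtain ⟨S⟩ : Nonempty (Sylow 2 G) := inferInstance
  rcases Cfsg.Agent.S2202.result hev hc with hcyc | hnor | ⟨F, iF, iF', A, iA, iA', h2, hA, ⟨e⟩⟩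
  · exfalso
    obtain ⟨K, hK⟩ := Cfsg.Agent.S0219.result hev S (hcyc S)
    haveI := normal_of_index_eq_two hK
    rcases Subgroup.Normal.eq_bot_or_eq_top (inferInstance : K.Normal) with rfl | rfl
    · rw [index_bot] at hK
      haveI : IsCyclic G := isCyclic_of_prime_card (p := 2) hK
      exact hG inferInstance
    · rw [index_top] at hK; omega
  · exfalso
    rcases (hnor S).eq_bot_or_eq_top with hb | ht
    · have := S.not_dvd_index
      rw [hb, index_bot] at this
      exact this (even_iff_two_dvd.1 hev)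
    · have hp : IsPGroup 2 G := (ht ▸ S.2 : IsPGroup 2 (⊤ : Subgroup G)).of_equiv topEquiv
      haveI := hp.isNilpotent
      exact not_solvable_of_noncomm hG inferInstance
  · letI := iF; letI := iF'; letI := iA
    have hA1 : ∀ a : A, a = 1 := fun a => by
      obtain ⟨g, hg⟩ := e.surjective (1, a)
      have := hom_trivial hG ((MonoidHom.snd _ A).comp e.toMonoidHom) g
      simpa [hg] using this
    haveI : Subsingleton A := ⟨fun a b => (hA1 a).trans (hA1 b).symm⟩
    have e₁ : G ≃* Matrix.SpecialLinearGroup (Fin 2) F :=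
      { toEquiv := e.toEquiv.trans
          { toFun := Prod.fst, invFun := fun s => (s, 1),
            left_inv := fun _ => Prod.ext rfl (Subsingleton.elim _ _), right_inv := fun _ => rfl }
        map_mul' := fun a b => congrArg Prod.fst (map_mul e a b) }
    haveI := h2
    obtain ⟨m, -, hm⟩ := FiniteField.card F 2
    have hne2 : Fintype.card F ≠ 2 := by
      intro hF
      obtain ⟨e'⟩ := Cfsg.Agent.S0250.result hF
      obtain ⟨g, hg⟩ := (e₁.trans e').surjective (Equiv.swap 0 1)
      have := hom_trivial hG (Equiv.Perm.sign.comp (e₁.trans e').toMonoidHom) g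
      simp [show e' (e₁ g) = Equiv.swap 0 1 from hg] at this
    obtain ⟨e₂⟩ := PrimeBlock.Brauer.sl_equiv_psl F m.ne_zero hm
    by_cases h4 : Fintype.card F = 4
    · haveI : Fact (Nat.Prime 5) := ⟨by norm_num⟩
      obtain ⟨f₁⟩ := Cfsg.Agent.S0252.result h4
      obtain ⟨f₂⟩ := Cfsg.Agent.S0253.result (F := ZMod 5) (ZMod.card 5)
      exact ⟨ZMod 5, inferInstance, inferInstance, by simp, by simp,
        ⟨((e₁.trans e₂.symm).trans f₁).trans f₂.symm⟩⟩
    · refine ⟨F, iF, iF', ?_, h4, ⟨e₁.trans e₂.symm⟩⟩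
      have h1 := Fintype.one_lt_card (α := F)
      have : Fintype.card F ≠ 3 := by
        rw [hm]
        intro k
        have := dvd_pow_self 2 m.ne_zero
        omega
      omega

/-- Simple groups in which all nontrivial subgroups of even cyclic subgroups have equal normalizers. -/
theorem simple_case (h : Nrm G) (hG : ¬ IsMulCommutative G) :
    ∃ (F : Type) (_ : Field F) (_ : Fintype F), 3 < Fintype.card F ∧ Fintype.card F ≠ 4 ∧
      Nonempty (G ≃* Matrix.ProjectiveSpecialLinearGroup (Fin 2) F) := by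
  classical
  haveI : Fact (Nat.Prime 2) := ⟨Nat.prime_two⟩
  have hev : Even (Nat.card G) := by
    by_contra hno
    exact not_solvable_of_noncomm hG (Cfsg.Agent.S0205.result (Nat.not_even_iff_odd.1 hno))
  obtain ⟨S⟩ : Nonempty (Sylow 2 G) := inferInstance
  have hne : (S : Subgroup G) ≠ ⊥ := S.ne_bot_of_dvd_card (even_iff_two_dvd.1 hev)
  haveI : Nontrivial (S : Subgroup G) := (nontrivial_iff_ne_bot _).2 hne
  haveI := S.2.center_nontrivial
  obtain ⟨z, hz⟩ : ∃ z : center (S : Subgroup G), orderOf z = 2 := by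
    refine exists_prime_orderOf_dvd_card' 2 ?_
    obtain ⟨k, hk0, hk⟩ := (S.2.to_subgroup (center (S : Subgroup G))).nontrivial_iff_card.1 inferInstance
    exact hk ▸ dvd_pow_self 2 (by omega)
  have hzo : orderOf ((z : (S : Subgroup G)) : G) = 2 := by rw [orderOf_coe, orderOf_coe, hz]
  have hzc : ∀ s ∈ (S : Subgroup G), Commute s ((z : (S : Subgroup G)) : G) := fun s hs =>
    congrArg Subtype.val (mem_center_iff.1 z.2 ⟨s, hs⟩)
  by_cases hu : ∀ v ∈ (S : Subgroup G), orderOf v = 2 → (∀ s ∈ (S : Subgroup G), Commute s v) →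
      v = ((z : (S : Subgroup G)) : G)
  · have H : OneInv S ((z : (S : Subgroup G)) : G) := ⟨hzo, (z : (S : Subgroup G)).2, hzc, hu⟩
    obtain ⟨C, n, hn, hCS, hcyc, hrel, hiso, hrot, hout⟩ := H.dihedral h hG
    refine dih_case h hG ⟨hzo, (z : (S : Subgroup G)).2, hzc, C, n, hn, hCS, hcyc, hrel, hiso, hrot,
      fun s hs hsC => (hout s hs hsC).1, fun _ s hs hso hsz he => hsz (H.uniq s hs hso fun s' hs' => ?_)⟩
    have : s' ∈ centralizer ({s} : Set G) := he ▸ mem_centralizer_singleton_iff.2 (hzc s' hs').eq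
    exact mem_centralizer_singleton_iff.1 this
  · push Not at hu
    obtain ⟨v, hvS, hv, hvc, hvz⟩ := hu
    rcases center_four h hG S hv hzo hvz hvS (z : (S : Subgroup G)).2 hvc hzc with hc | ⟨t, ht⟩
    · exact abelian_case hG hev hc
    · exact dih_case h hG ht

end Cfsg.Agent.NormEq
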