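import Cfsg.Agent.NormEq.Basic
import Cfsg.Agent.NormEq.Closed
import Cfsg.Agent.S0205
import Cfsg.Agent.Lib.PLocal.Cores
import Cfsg.Agent.Lib.Hall.MinimalNormal

/-!
# The socle of a group with equal normalizers and no solvable normal subgroup
-/

set_option autoImplicit false
set_option linter.style.haveILetI false
set_option linter.unusedSectionVars false

namespace Cfsg.Agent.NormEq

open Subgroup Cfsg.Agent.Involutions

variable {G : Type*} [Group G] [Finite G]

/-- Commuting nonsolvable subgroups: the first has a nontrivial central involution. -/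
theorem exists_central (h : Nrm G) {A B : Subgroup G} (hA : ¬ Group.IsSolvable A)
    (hB : ¬ Group.IsSolvable B) (hc : ∀ a ∈ A, ∀ b ∈ B, Commute a b) :
    ∃ t ∈ A, t ≠ 1 ∧ ∀ a ∈ A, Commute a t := by
  haveI : Fact (Nat.Prime 2) := ⟨Nat.prime_two⟩
  have hev : 2 ∣ Nat.card A := by
    by_contra hno
    exact hA (Cfsg.Agent.S0205.result (Nat.not_even_iff_odd.1 fun he => hno (even_iff_two_dvd.1 he)))
  obtain ⟨t, ht⟩ := exists_prime_orderOf_dvd_card' 2 hev
  have ht' : orderOf (t : G) = 2 := by rw [orderOf_coe]; exact ht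
  obtain ⟨x, hxB, hx1, hxo⟩ : ∃ x ∈ B, x ≠ 1 ∧ Odd (orderOf x) := by
    by_contra hno
    push Not at hno
    have hp : IsPGroup 2 B := fun b => by
      obtain ⟨p, q, -, hq, hp2, hqo, hb⟩ := exists_parts (b : G)
      have hq1 : q = 1 := by
        by_contra hq1
        exact hno q (zpowers_le.2 b.2 hq) hq1 hqo
      rw [hq1, mul_one] at hb
      obtain ⟨k, hk⟩ := hp2 ⟨(b : G), by rw [hb]; exact mem_zpowers p⟩
      exact ⟨k, Subtype.ext (by simpa using congrArg Subtype.val hk)⟩
    haveI := hp.isNilpotent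
    exact hB inferInstance
  refine ⟨t, t.2, orderOf_two_ne ht', fun a ha => ?_⟩
  have hn : a ∈ normalizer (zpowers x : Set G) := by
    refine centralizer_le_normalizer _ ?_
    rw [mem_centralizer_iff]
    rintro _ ⟨n, rfl⟩
    exact ((hc a ha x hxB).zpow_right n).eq.symm
  rw [h.norm_odd ht' hxo hx1 (hc t t.2 x hxB).symm] at hn
  exact mem_centralizer_singleton_iff.1 hn

/-- The socle is simple, nonabelian and self-centralizing. -/
theorem exists_socle [Nontrivial G]
    (hss : ∀ N : Subgroup G, N.Normal → Group.IsSolvable ↥N → N = ⊥) (h : Nrm G) :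
    ∃ N : Subgroup G, N.Normal ∧ IsSimpleGroup N ∧ ¬ IsMulCommutative N ∧
      centralizer (N : Set G) = ⊥ := by
  classical
  obtain ⟨N, hN, -, hN0, hmin⟩ := Hall.exists_minimal_normal (⊤ : Subgroup G) top_ne_bot
  haveI := hN
  have hns : ¬ Group.IsSolvable N := fun hs => hN0 (hss N hN hs)
  have hna : ¬ IsMulCommutative N := fun hc =>
    hns (Group.isSolvable_of_comm fun a b => hc.is_comm.comm a b)
  haveI : Nontrivial N := N.nontrivial_iff_ne_bot.2 hN0
  have hsimple : IsSimpleGroup N := by
    refine ⟨fun K hK => ?_⟩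
    by_contra hcon
    push Not at hcon
    obtain ⟨M, hMn, hMK, hM0, hMmin⟩ := Hall.exists_minimal_normal K hcon.1
    haveI := hMn
    have hMs : ¬ Group.IsSolvable M := fun hs => by
      haveI := hs
      obtain ⟨p, hp, -, hpg, -⟩ := Hall.minimal_normal_isElementaryAbelian hM0 hMmin
      haveI := Fact.mk hp
      have hP : (Cfsg.pCore p ↥N).map N.subtype = ⊥ := by
        refine hss _ inferInstance ?_
        haveI := ((PLocal.Cores.isPGroup_pCore (p := p) (G := ↥N)).map N.subtype).isNilpotent
        infer_instance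
      rw [map_eq_bot_iff_of_injective _ N.subtype_injective] at hP
      exact hM0 (le_bot_iff.1 (hP ▸ PLocal.Cores.le_pCore hpg))
    have hA : ∃ g : G, ¬ ∀ m ∈ M, (⟨g * (m : G) * g⁻¹, hN.conj_mem _ m.2 g⟩ : N) ∈ M := by
      by_contra hall
      push Not at hall
      have hn : (M.map N.subtype).Normal := ⟨fun a ha g => by
        obtain ⟨m, hm, rfl⟩ := ha
        exact ⟨_, hall g m hm, rfl⟩⟩
      rcases hmin _ hn (map_subtype_le M) with e | e
      · exact hM0 ((map_eq_bot_iff_of_injective _ N.subtype_injective).1 e)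
      · refine hcon.2 (top_le_iff.1 (le_trans (fun x _ => ?_) hMK))
        obtain ⟨m, hm, hmx⟩ : (x : G) ∈ M.map N.subtype := e.symm ▸ x.2
        exact (Subtype.ext hmx : m = x) ▸ hm
    obtain ⟨g, hg⟩ := hA
    obtain ⟨c, hc⟩ : ∃ c : MulAut N, c = MulAut.conjNormal g := ⟨_, rfl⟩
    haveI : (M.map c.toMonoidHom).Normal := Normal.map inferInstance _ c.surjective
    have hinf : M ⊓ M.map c.toMonoidHom = ⊥ := by
      refine Hall.minimal_normal_inf_eq_bot hMmin fun hle => ?_
      have he := eq_of_le_of_card_ge hle (le_of_eq (card_map_of_injective c.injective))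
      refine hg fun m hm => ?_
      have : c m ∈ M.map c.toMonoidHom := mem_map_of_mem _ hm
      rw [← he, hc] at this
      exact (Subtype.ext (MulAut.conjNormal_apply g m) :
        MulAut.conjNormal g m = (⟨g * (m : G) * g⁻¹, hN.conj_mem _ m.2 g⟩ : N)) ▸ this
    have hB : ¬ Group.IsSolvable (M.map c.toMonoidHom) := fun hs => hMs (by
      haveI := hs
      exact Group.isSolvable_of_isSolvable_injective
        (f := (M.equivMapOfInjective c.toMonoidHom c.injective).toMonoidHom)
        (M.equivMapOfInjective c.toMonoidHom c.injective).injective)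
    obtain ⟨t, htM, ht1, htc⟩ := exists_central (h.subgroup N) hMs hB fun a ha b hb =>
      commute_of_normal_of_disjoint _ _ inferInstance inferInstance (disjoint_iff.2 hinf) a b ha hb
    have hZ : M ⊓ centralizer (M : Set N) = ⊥ := by
      refine Hall.minimal_normal_inf_eq_bot hMmin fun hle => hMs ?_
      exact Group.isSolvable_of_comm fun a b => Subtype.ext (mem_centralizer_iff.1 (hle b.2) a a.2)
    exact ht1 (mem_bot.1 (hZ ▸ mem_inf.2 ⟨htM, mem_centralizer_iff.2 fun a ha => (htc a ha).eq⟩))
  refine ⟨N, hN, hsimple, hna, ?_⟩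
  by_contra hC
  have hZ : N ⊓ centralizer (N : Set G) = ⊥ := by
    refine Hall.minimal_normal_inf_eq_bot hmin fun hle => hna ?_
    exact ⟨⟨fun a b => Subtype.ext (mem_centralizer_iff.1 (hle b.2) a a.2)⟩⟩
  obtain ⟨t, htN, ht1, htc⟩ := exists_central h hns (fun hs => hC (hss _ inferInstance hs))
    (fun a ha b hb => (mem_centralizer_iff.1 hb a ha))
  exact ht1 (mem_bot.1 (hZ ▸ mem_inf.2 ⟨htN, mem_centralizer_iff.2 fun a ha => (htc a ha).eq⟩))

end Cfsg.Agent.NormEq
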